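import Mathlib
import Cfsg.Agent.SmallSimple.SelfCentPrime

/-!
# S4162, part 1: groups with distinct class sizes (helper668)

* `cc x` : order of the centralizer of `x`;
* `Dist G` : elements with the same centralizer order are conjugate;
* `Rat G` : every element is conjugate to its powers with exponent prime to `|G|`;
* `sum_inv_cc` : the class equation `∑ 1 / c = 1`;
* `cc_quot_le`, `cc_quot_two` : centralizers in quotients.
-/

set_option autoImplicit false

open Subgroup

namespace Cfsg.Agent.H668.DS

open Classical in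
/-- The order of the centralizer. -/
noncomputable def cc {G : Type*} [Group G] (x : G) : ℕ := Nat.card (Subgroup.centralizer ({x} : Set G))

/-- Elements with the same centralizer order are conjugate. -/
def Dist (G : Type*) [Group G] : Prop := ∀ x y : G, cc x = cc y → IsConj x y

/-- Rational groups. -/
def Rat (G : Type*) [Group G] : Prop := ∀ (x : G) (j : ℕ), j.Coprime (Nat.card G) → IsConj x (x ^ j)

theorem cc_pos {G : Type*} [Group G] [Finite G] (x : G) : 0 < cc x := Nat.card_pos

theorem cc_dvd {G : Type*} [Group G] [Finite G] (x : G) : cc x ∣ Nat.card G := Subgroup.card_subgroup_dvd_card _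

theorem card_carrier_mul_cc {G : Type*} [Group G] [Finite G] (x : G) :
    Nat.card (ConjClasses.mk x).carrier * cc x = Nat.card G :=
  SmallSimple.SelfCentPrime.card_carrier_mul_card_centralizer x

theorem card_conj_mul_cc {G : Type*} [Group G] [Finite G] (x : G) :
    Nat.card {y : G // IsConj x y} * cc x = Nat.card G := by
  rw [← card_carrier_mul_cc x]
  congr 1

theorem cc_eq_of_isConj {G : Type*} [Group G] [Finite G] {x y : G} (h : IsConj x y) : cc x = cc y := by
  have h1 := card_carrier_mul_cc x
  have h2 := card_carrier_mul_cc y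
  have h3 : ConjClasses.mk x = ConjClasses.mk y := ConjClasses.mk_eq_mk_iff_isConj.2 h
  rw [h3] at h1
  have h4 : 0 < Nat.card (ConjClasses.mk y).carrier := by
    rcases Nat.eq_zero_or_pos (Nat.card (ConjClasses.mk y).carrier) with h0 | h0
    · rw [h0, zero_mul] at h2
      exact absurd h2.symm Nat.card_pos.ne'
    · exact h0
  exact Nat.eq_of_mul_eq_mul_left h4 (h1.trans h2.symm)

/-- `Dist` from the hypothesis of S4162. -/
theorem dist_of_inj {G : Type*} [Group G] [Finite G]
    (h : Function.Injective fun C : ConjClasses G => Nat.card C.carrier) : Dist G := by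
  intro x y hxy
  have h1 := card_carrier_mul_cc x
  have h2 := card_carrier_mul_cc y
  rw [hxy] at h1
  have h3 : Nat.card (ConjClasses.mk x).carrier = Nat.card (ConjClasses.mk y).carrier :=
    Nat.eq_of_mul_eq_mul_right (cc_pos y) (h1.trans h2.symm)
  exact ConjClasses.mk_eq_mk_iff_isConj.1 (h h3)

theorem cc_pow {G : Type*} [Group G] [Finite G] (x : G) {j : ℕ} (hj : j.Coprime (orderOf x)) :
    cc (x ^ j) = cc x := by
  unfold cc
  congr 2
  ext g
  rw [mem_centralizer_singleton_iff, mem_centralizer_singleton_iff]
  constructor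
  · intro h
    obtain ⟨m, hm⟩ := exists_pow_eq_self_of_coprime hj
    rw [← hm]
    exact (Commute.pow_right (show Commute g (x ^ j) from h) m)
  · intro h
    exact (Commute.pow_right (show Commute g x from h) j)

/-- Groups with distinct class sizes are rational. -/
theorem Dist.rat {G : Type*} [Group G] [Finite G] (h : Dist G) : Rat G := by
  intro x j hj
  apply h
  rw [cc_pow x (hj.coprime_dvd_right (orderOf_dvd_natCard x))]

theorem Rat.inv {G : Type*} [Group G] [Finite G] (h : Rat G) (x : G) : IsConj x x⁻¹ := by
  have h1 : 0 < Nat.card G := Nat.card_pos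
  have h2 : (Nat.card G - 1).Coprime (Nat.card G) := by
    rcases Nat.lt_or_ge 1 (Nat.card G) with h3 | h3
    · exact (Nat.coprime_self_sub_left h3.le).2 (Nat.coprime_one_left _) |>.symm.symm
    · have h4 : Nat.card G = 1 := le_antisymm h3 h1
      rw [h4]
      simp
  have h3 := h x _ h2
  have h4 : x ^ (Nat.card G - 1) = x⁻¹ := by
    rw [eq_inv_iff_mul_eq_one, ← pow_succ, Nat.sub_add_cancel h1, pow_card_eq_one']
  rwa [h4] at h3

/-- Quotients of rational groups are rational. -/
theorem Rat.of_surjective {G H : Type*} [Group G] [Finite G] [Group H] [Finite H] (h : Rat G) (f : G →* H)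
    (hf : Function.Surjective f) : Rat H := by
  intro y j hj
  obtain ⟨x, rfl⟩ := hf y
  -- replace `j` by an exponent prime to `|G|`
  obtain ⟨j', hj', hjj⟩ : ∃ j' : ℕ, j'.Coprime (Nat.card G) ∧ j' ≡ j [MOD Nat.card H] := by
    have h1 : Nat.card H ∣ Nat.card G := by
      rw [Nat.card_congr (QuotientGroup.quotientKerEquivOfSurjective f hf).toEquiv.symm]
      exact Subgroup.card_quotient_dvd_card _
    have := ZMod.unitsMap_surjective h1
    obtain ⟨u, hu⟩ := this (ZMod.unitOfCoprime j hj)
    have : NeZero (Nat.card G) := ⟨Nat.card_pos.ne'⟩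
    have : NeZero (Nat.card H) := ⟨Nat.card_pos.ne'⟩
    refine ⟨(u : ZMod (Nat.card G)).val, ZMod.val_coe_unit_coprime u, ?_⟩
    rw [← ZMod.natCast_eq_natCast_iff]
    have h2 := congrArg (fun z : (ZMod (Nat.card H))ˣ => (z : ZMod (Nat.card H))) hu
    simp only [ZMod.unitsMap_val, ZMod.coe_unitOfCoprime] at h2
    rw [← h2, ZMod.natCast_val]
  have h2 : f x ^ j = f x ^ j' := by
    apply (pow_eq_pow_iff_modEq).2
    exact (hjj.symm).of_dvd (orderOf_dvd_natCard _)
  rw [h2, ← map_pow]
  exact f.map_isConj (h x j' hj')

/-- The class equation. -/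
theorem sum_inv_cc {G : Type*} [Group G] [Finite G] (h : Dist G) [Fintype G] [DecidableEq ℕ] :
    ∑ d ∈ Finset.univ.image (fun x : G => cc x), (1 / (d : ℚ)) = 1 := by
  classical
  have h1 : (Nat.card G : ℚ) = ∑ d ∈ Finset.univ.image (fun x : G => cc x), (Nat.card G : ℚ) * (1 / (d : ℚ)) := by
    have h2 : (Finset.univ : Finset G).card
        = ∑ d ∈ Finset.univ.image (fun x : G => cc x), ((Finset.univ : Finset G).filter (fun x => cc x = d)).card := by
      apply Finset.card_eq_sum_card_image
    rw [Nat.card_eq_fintype_card, ← Finset.card_univ, h2]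
    push_cast
    apply Finset.sum_congr rfl
    intro d hd
    obtain ⟨x, -, rfl⟩ := Finset.mem_image.1 hd
    have h3 : ((Finset.univ : Finset G).filter (fun y => cc y = cc x)).card = Nat.card {y : G // IsConj x y} := by
      rw [Nat.card_eq_fintype_card, Fintype.card_subtype]
      congr 1
      ext y
      simp only [Finset.mem_filter, Finset.mem_univ, true_and]
      constructor
      · intro hy
        exact h x y hy.symm
      · intro hy
        exact (cc_eq_of_isConj hy).symm
    have h4 := card_conj_mul_cc x
    rw [h3]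
    have h5 : ((Finset.univ : Finset G).card : ℚ) = (Nat.card {y : G // IsConj x y} : ℚ) * (cc x : ℚ) := by
      rw [Finset.card_univ, ← Nat.card_eq_fintype_card, ← h4]
      push_cast
      ring
    have h6 : (cc x : ℚ) ≠ 0 := by exact_mod_cast (cc_pos x).ne'
    have h7 : (Finset.univ : Finset G).card = ∑ d ∈ Finset.univ.image (fun x : G => cc x),
      ((Finset.univ : Finset G).filter (fun x => cc x = d)).card := h2
    rw [← Nat.cast_sum, ← h7, h5]
    field_simp
  rw [← Finset.mul_sum] at h1
  have h2 : (Nat.card G : ℚ) ≠ 0 := by exact_mod_cast (Nat.card_pos (α := G)).ne'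
  field_simp at h1
  linarith

/-- Fibres of a surjective homomorphism over a subset. -/
theorem card_preimage {G H : Type*} [Group G] [Finite G] [Group H] [Finite H] (f : G →* H)
    (hf : Function.Surjective f) (S : Set H) :
    Nat.card (f ⁻¹' S) = Nat.card f.ker * Nat.card S := by
  classical
  have e : (f ⁻¹' S) ≃ f.ker × S := by
    choose g hg using hf
    refine
      { toFun := fun z => (⟨(g (f z))⁻¹ * z, by rw [MonoidHom.mem_ker, map_mul, map_inv, hg, inv_mul_cancel]⟩, ⟨f z, z.2⟩)
        invFun := fun w => ⟨g w.2 * w.1, by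
          rw [Set.mem_preimage, map_mul, hg, (MonoidHom.mem_ker).1 w.1.2, mul_one]; exact w.2.2⟩
        left_inv := fun z => by
          ext; simp
        right_inv := fun w => by
          obtain ⟨⟨a, ha⟩, ⟨b, hb⟩⟩ := w
          have h1 : f (g b * a) = b := by
            rw [map_mul, hg, (MonoidHom.mem_ker).1 ha, mul_one]
          ext
          · simp [h1]
          · simp [h1] }
  rw [Nat.card_congr e, Nat.card_prod]

theorem card_preimage_conj {G H : Type*} [Group G] [Finite G] [Group H] [Finite H] (f : G →* H)
    (hf : Function.Surjective f) (x : G) :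
    Nat.card {y : G // IsConj (f x) (f y)} * cc (f x) = Nat.card G := by
  have h1 : Nat.card {y : G // IsConj (f x) (f y)} = Nat.card f.ker * Nat.card {w : H // IsConj (f x) w} :=
    card_preimage f hf {w : H | IsConj (f x) w}
  have h2 := card_conj_mul_cc (f x)
  have h3 : Nat.card G = Nat.card f.ker * Nat.card H := by
    have := card_preimage f hf Set.univ
    rw [Set.preimage_univ] at this
    rw [Nat.card_congr (Equiv.Set.univ G), Nat.card_congr (Equiv.Set.univ H)] at this
    exact this
  rw [h1, mul_assoc, h2, h3]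

theorem cc_quot_le {G H : Type*} [Group G] [Finite G] [Group H] [Finite H] (f : G →* H)
    (hf : Function.Surjective f) (x : G) : cc (f x) ≤ cc x := by
  have h1 := card_preimage_conj f hf x
  have h2 := card_conj_mul_cc x
  have h3 : Nat.card {y : G // IsConj x y} ≤ Nat.card {y : G // IsConj (f x) (f y)} := by
    apply Nat.card_le_card_of_injective (fun y : {y : G // IsConj x y} => (⟨y.1, f.map_isConj y.2⟩ : {y : G // IsConj (f x) (f y)}))
    intro a b hab
    exact Subtype.ext (congrArg (fun z : {y : G // IsConj (f x) (f y)} => z.1) hab)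
  have h4 : 0 < Nat.card {y : G // IsConj x y} := by
    rcases Nat.eq_zero_or_pos (Nat.card {y : G // IsConj x y}) with h0 | h0
    · rw [h0, zero_mul] at h2
      exact absurd h2.symm Nat.card_pos.ne'
    · exact h0
  by_contra hlt
  push Not at hlt
  have h5 : Nat.card {y : G // IsConj x y} * cc x < Nat.card {y : G // IsConj (f x) (f y)} * cc (f x) := by
    calc Nat.card {y : G // IsConj x y} * cc x < Nat.card {y : G // IsConj x y} * cc (f x) := by
          exact Nat.mul_lt_mul_of_pos_left hlt h4
      _ ≤ _ := Nat.mul_le_mul_right _ h3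
  omega

/-- Two classes over the same class of a quotient. -/
theorem cc_quot_two {G H : Type*} [Group G] [Finite G] [Group H] [Finite H] (f : G →* H)
    (hf : Function.Surjective f) (x y : G) (hxy : ¬ IsConj x y) (h : IsConj (f x) (f y)) :
    1 / (cc x : ℚ) + 1 / (cc y : ℚ) ≤ 1 / (cc (f x) : ℚ) := by
  classical
  have h1 := card_preimage_conj f hf x
  have h2 := card_conj_mul_cc x
  have h2' := card_conj_mul_cc y
  have h3 : Nat.card {z : G // IsConj x z} + Nat.card {z : G // IsConj y z}
      ≤ Nat.card {z : G // IsConj (f x) (f z)} := by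
    rw [← Nat.card_sum]
    apply Nat.card_le_card_of_injective (Sum.elim
      (fun z : {z : G // IsConj x z} => (⟨z.1, f.map_isConj z.2⟩ : {z : G // IsConj (f x) (f z)}))
      (fun z : {z : G // IsConj y z} => (⟨z.1, h.trans (f.map_isConj z.2)⟩ : {z : G // IsConj (f x) (f z)})))
    rintro (a | a) (b | b) hab
    · simp only [Sum.elim_inl, Subtype.mk.injEq] at hab
      rw [Sum.inl.injEq]
      exact Subtype.ext hab
    · simp only [Sum.elim_inl, Sum.elim_inr, Subtype.mk.injEq] at hab
      exact absurd (a.2.trans (hab ▸ b.2.symm)) hxy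
    · simp only [Sum.elim_inl, Sum.elim_inr, Subtype.mk.injEq] at hab
      exact absurd (b.2.trans (hab ▸ a.2.symm)) hxy
    · simp only [Sum.elim_inr, Subtype.mk.injEq] at hab
      rw [Sum.inr.injEq]
      exact Subtype.ext hab
  have hG : (0 : ℚ) < (Nat.card G : ℚ) := by exact_mod_cast (Nat.card_pos (α := G))
  have e1 : (Nat.card {z : G // IsConj x z} : ℚ) = Nat.card G * (1 / (cc x : ℚ)) := by
    have : (cc x : ℚ) ≠ 0 := by exact_mod_cast (cc_pos x).ne'
    rw [← h2]
    push_cast
    field_simp
  have e2 : (Nat.card {z : G // IsConj y z} : ℚ) = Nat.card G * (1 / (cc y : ℚ)) := by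
    have : (cc y : ℚ) ≠ 0 := by exact_mod_cast (cc_pos y).ne'
    rw [← h2']
    push_cast
    field_simp
  have e3 : (Nat.card {z : G // IsConj (f x) (f z)} : ℚ) = Nat.card G * (1 / (cc (f x) : ℚ)) := by
    have : (cc (f x) : ℚ) ≠ 0 := by exact_mod_cast (cc_pos (f x)).ne'
    rw [← h1]
    push_cast
    field_simp
  have h4 : (Nat.card {z : G // IsConj x z} : ℚ) + (Nat.card {z : G // IsConj y z} : ℚ)
      ≤ (Nat.card {z : G // IsConj (f x) (f z)} : ℚ) := by exact_mod_cast h3
  rw [e1, e2, e3, ← mul_add] at h4
  exact le_of_mul_le_mul_left h4 hG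

end Cfsg.Agent.H668.DS
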