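import Mathlib

/-!
# S4162, part 2: sums of reciprocals of smooth numbers (helper668)
-/

set_option autoImplicit false

namespace Cfsg.Agent.H668.DS

theorem geom_lt (q : ℚ) (hq : 1 < q) (M : ℕ) : ∑ i ∈ Finset.range M, (1 / q) ^ i < q / (q - 1) := by
  have h0 : (0 : ℚ) < q := by linarith
  have h1 : (1 / q : ℚ) ≠ 1 := by
    intro h
    rw [div_eq_one_iff_eq h0.ne'] at h
    linarith
  rw [geom_sum_eq h1]
  have h2 : (0 : ℚ) < (1 / q) ^ M := by positivity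
  have h3 : (1 / q : ℚ) - 1 < 0 := by
    rw [sub_neg, div_lt_one h0]
    exact hq
  rw [div_lt_iff_of_neg h3]
  have h4 : q / (q - 1) * (1 / q - 1) = -1 := by
    have : q - 1 ≠ 0 := by linarith
    field_simp
    ring
  rw [h4]
  linarith

theorem smooth_sum {C I J K : Finset ℕ}
    (hC : ∀ c ∈ C, ∃ i ∈ I, ∃ j ∈ J, ∃ k ∈ K, c = 2 ^ i * 3 ^ j * 5 ^ k) :
    ∑ c ∈ C, (1 / (c : ℚ)) ≤ (∑ i ∈ I, (1 / 2 : ℚ) ^ i) * (∑ j ∈ J, (1 / 3 : ℚ) ^ j) * (∑ k ∈ K, (1 / 5 : ℚ) ^ k) := by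
  classical
  have h1 : C ⊆ ((I ×ˢ J) ×ˢ K).image (fun t : (ℕ × ℕ) × ℕ => 2 ^ t.1.1 * 3 ^ t.1.2 * 5 ^ t.2) := by
    intro c hc
    obtain ⟨i, hi, j, hj, k, hk, rfl⟩ := hC c hc
    rw [Finset.mem_image]
    exact ⟨((i, j), k), by simp [hi, hj, hk], rfl⟩
  have h2 : ∑ c ∈ C, (1 / (c : ℚ)) ≤ ∑ t ∈ (I ×ˢ J) ×ˢ K, (1 / ((2 ^ t.1.1 * 3 ^ t.1.2 * 5 ^ t.2 : ℕ) : ℚ)) := by
    refine le_trans (Finset.sum_le_sum_of_subset_of_nonneg h1 (fun c _ _ => by positivity)) ?_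
    apply Finset.sum_image_le_of_nonneg
    intro t _
    positivity
  refine h2.trans (le_of_eq ?_)
  rw [Finset.sum_product, Finset.sum_product, Finset.sum_mul_sum, Finset.sum_mul]
  apply Finset.sum_congr rfl
  intro i _
  rw [Finset.sum_mul]
  apply Finset.sum_congr rfl
  intro j _
  rw [Finset.mul_sum]
  apply Finset.sum_congr rfl
  intro k _
  push_cast
  rw [one_div_pow, one_div_pow, one_div_pow, one_div_mul_one_div, one_div_mul_one_div]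

theorem exists_bound (C : Finset ℕ) : ∃ M : ℕ, ∀ c ∈ C, ∀ i j k : ℕ, c = 2 ^ i * 3 ^ j * 5 ^ k → i < M ∧ j < M ∧ k < M := by
  refine ⟨C.sup id + 1, fun c hc i j k h => ?_⟩
  have h1 : c ≤ C.sup id := Finset.le_sup (f := id) hc
  have h2 : i < 2 ^ i := Nat.lt_two_pow_self
  have h3 : j < 3 ^ j := Nat.lt_pow_self (by norm_num)
  have h4 : k < 5 ^ k := Nat.lt_pow_self (by norm_num)
  have h5 : 1 ≤ 2 ^ i := Nat.one_le_two_pow
  have h6 : 1 ≤ 3 ^ j := Nat.one_le_pow _ _ (by norm_num)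
  have h7 : 1 ≤ 5 ^ k := Nat.one_le_pow _ _ (by norm_num)
  have h8 : 2 ^ i ≤ c := by
    rw [h]
    calc 2 ^ i = 2 ^ i * 1 * 1 := by ring
      _ ≤ _ := Nat.mul_le_mul (Nat.mul_le_mul le_rfl h6) h7
  have h9 : 3 ^ j ≤ c := by
    rw [h]
    calc 3 ^ j = 1 * 3 ^ j * 1 := by ring
      _ ≤ _ := Nat.mul_le_mul (Nat.mul_le_mul h5 le_rfl) h7
  have h10 : 5 ^ k ≤ c := by
    rw [h]
    calc 5 ^ k = 1 * 1 * 5 ^ k := by ring
      _ ≤ _ := Nat.mul_le_mul (Nat.mul_le_mul h5 h6) le_rfl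
  omega

theorem geom2 (M : ℕ) : ∑ i ∈ Finset.range M, (1 / 2 : ℚ) ^ i < 2 := by
  have := geom_lt 2 (by norm_num) M
  norm_num at this ⊢
  exact this

theorem geom3 (M : ℕ) : ∑ i ∈ Finset.range M, (1 / 3 : ℚ) ^ i < 3 / 2 := by
  have := geom_lt 3 (by norm_num) M
  norm_num at this ⊢
  exact this

theorem geom5 (M : ℕ) : ∑ i ∈ (Finset.range M).erase 1, (1 / 5 : ℚ) ^ i ≤ 21 / 20 := by
  have h := geom_lt 5 (by norm_num) M
  by_cases h1 : 1 ∈ Finset.range M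
  · have h2 := Finset.add_sum_erase (Finset.range M) (fun i => (1 / 5 : ℚ) ^ i) h1
    simp only [pow_one] at h2
    norm_num at h h2 ⊢
    linarith
  · rw [Finset.erase_eq_of_notMem h1]
    rw [Finset.mem_range, not_lt] at h1
    interval_cases M
    · simp
      norm_num
    · simp
      norm_num

theorem sum_nonneg' (s : Finset ℕ) (q : ℚ) (hq : 0 ≤ q) : 0 ≤ ∑ i ∈ s, q ^ i :=
  Finset.sum_nonneg (fun i _ => by positivity)

/-- `{2,3,5}`-numbers with 5-part different from 5. -/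
theorem bound5 (C X : Finset ℕ) (hC : ∀ c ∈ C, ∃ i j k : ℕ, k ≠ 1 ∧ c = 2 ^ i * 3 ^ j * 5 ^ k)
    (hX : ∀ c ∈ X, ∃ i j k : ℕ, k ≠ 1 ∧ c = 2 ^ i * 3 ^ j * 5 ^ k) (hd : Disjoint C X) :
    ∑ c ∈ C, (1 / (c : ℚ)) + ∑ c ∈ X, (1 / (c : ℚ)) < 63 / 20 := by
  classical
  rw [← Finset.sum_union hd]
  obtain ⟨M, hM⟩ := exists_bound (C ∪ X)
  have h1 := smooth_sum (C := C ∪ X) (I := Finset.range (M + 1)) (J := Finset.range (M + 1)) (K := (Finset.range (M + 1)).erase 1)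
    (by
      intro c hc
      obtain ⟨i, j, k, hk, h⟩ : ∃ i j k : ℕ, k ≠ 1 ∧ c = 2 ^ i * 3 ^ j * 5 ^ k := by
        rcases Finset.mem_union.1 hc with h | h
        · exact hC c h
        · exact hX c h
      obtain ⟨a1, a2, a3⟩ := hM c hc i j k h
      exact ⟨i, Finset.mem_range.2 (by omega), j, Finset.mem_range.2 (by omega), k,
        Finset.mem_erase.2 ⟨hk, Finset.mem_range.2 (by omega)⟩, h⟩)
  refine lt_of_le_of_lt h1 ?_
  have g2 := geom2 (M + 1)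
  have g3 := geom3 (M + 1)
  have g5 := geom5 (M + 1)
  have p2 := sum_nonneg' (Finset.range (M + 1)) (1 / 2) (by norm_num)
  have p3 : (0 : ℚ) < ∑ i ∈ Finset.range (M + 1), (1 / 3 : ℚ) ^ i :=
    Finset.sum_pos (fun i _ => by positivity) ⟨0, by simp⟩
  have p5 : (0 : ℚ) < ∑ i ∈ (Finset.range (M + 1)).erase 1, (1 / 5 : ℚ) ^ i :=
    Finset.sum_pos (fun i _ => by positivity) ⟨0, by simp⟩
  calc _ < 2 * (3 / 2) * (∑ k ∈ (Finset.range (M + 1)).erase 1, (1 / 5 : ℚ) ^ k) := by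
        apply mul_lt_mul_of_pos_right _ p5
        calc _ ≤ 2 * (∑ i ∈ Finset.range (M + 1), (1 / 3 : ℚ) ^ i) := mul_le_mul_of_nonneg_right g2.le p3.le
          _ < _ := by linarith
    _ ≤ _ := by linarith

/-- `{2,3}`-numbers. -/
theorem bound3 (C X : Finset ℕ) (hC : ∀ c ∈ C, ∃ i j : ℕ, c = 2 ^ i * 3 ^ j)
    (hX : ∀ c ∈ X, ∃ i j : ℕ, c = 2 ^ i * 3 ^ j) (hd : Disjoint C X) :
    ∑ c ∈ C, (1 / (c : ℚ)) + ∑ c ∈ X, (1 / (c : ℚ)) < 3 := by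
  classical
  rw [← Finset.sum_union hd]
  obtain ⟨M, hM⟩ := exists_bound (C ∪ X)
  have h1 := smooth_sum (C := C ∪ X) (I := Finset.range (M + 1)) (J := Finset.range (M + 1)) (K := {0})
    (by
      intro c hc
      obtain ⟨i, j, h⟩ : ∃ i j : ℕ, c = 2 ^ i * 3 ^ j := by
        rcases Finset.mem_union.1 hc with h | h
        · exact hC c h
        · exact hX c h
      have h' : c = 2 ^ i * 3 ^ j * 5 ^ 0 := by rw [h]; ring
      obtain ⟨a1, a2, a3⟩ := hM c hc i j 0 h'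
      exact ⟨i, Finset.mem_range.2 (by omega), j, Finset.mem_range.2 (by omega), 0, by simp, h'⟩)
  refine lt_of_le_of_lt h1 ?_
  have g2 := geom2 (M + 1)
  have g3 := geom3 (M + 1)
  have p3 : (0 : ℚ) < ∑ i ∈ Finset.range (M + 1), (1 / 3 : ℚ) ^ i :=
    Finset.sum_pos (fun i _ => by positivity) ⟨0, by simp⟩
  simp only [Finset.sum_singleton, pow_zero, mul_one]
  calc _ ≤ 2 * (∑ i ∈ Finset.range (M + 1), (1 / 3 : ℚ) ^ i) := mul_le_mul_of_nonneg_right g2.le p3.le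
    _ < _ := by linarith

/-- `{2,3}`-numbers not divisible by 16. -/
theorem bound3' (C X : Finset ℕ) (hC : ∀ c ∈ C, ∃ i j : ℕ, i < 4 ∧ c = 2 ^ i * 3 ^ j)
    (hX : ∀ c ∈ X, ∃ i j : ℕ, i < 4 ∧ c = 2 ^ i * 3 ^ j) (hd : Disjoint C X) :
    ∑ c ∈ C, (1 / (c : ℚ)) + ∑ c ∈ X, (1 / (c : ℚ)) < 45 / 16 := by
  classical
  rw [← Finset.sum_union hd]
  obtain ⟨M, hM⟩ := exists_bound (C ∪ X)
  have h1 := smooth_sum (C := C ∪ X) (I := Finset.range 4) (J := Finset.range (M + 1)) (K := {0})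
    (by
      intro c hc
      obtain ⟨i, j, hi, h⟩ : ∃ i j : ℕ, i < 4 ∧ c = 2 ^ i * 3 ^ j := by
        rcases Finset.mem_union.1 hc with h | h
        · exact hC c h
        · exact hX c h
      have h' : c = 2 ^ i * 3 ^ j * 5 ^ 0 := by rw [h]; ring
      obtain ⟨a1, a2, a3⟩ := hM c hc i j 0 h'
      exact ⟨i, Finset.mem_range.2 hi, j, Finset.mem_range.2 (by omega), 0, by simp, h'⟩)
  refine lt_of_le_of_lt h1 ?_
  have g2 : ∑ i ∈ Finset.range 4, (1 / 2 : ℚ) ^ i = 15 / 8 := by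
    simp [Finset.sum_range_succ]
    norm_num
  have g3 := geom3 (M + 1)
  rw [g2]
  simp only [Finset.sum_singleton, pow_zero, mul_one]
  linarith

/-- `{2,5}`-numbers with 5-part different from 5. -/
theorem bound25 (C X : Finset ℕ) (hC : ∀ c ∈ C, ∃ i k : ℕ, k ≠ 1 ∧ c = 2 ^ i * 5 ^ k)
    (hX : ∀ c ∈ X, ∃ i k : ℕ, k ≠ 1 ∧ c = 2 ^ i * 5 ^ k) (hd : Disjoint C X) :
    ∑ c ∈ C, (1 / (c : ℚ)) + ∑ c ∈ X, (1 / (c : ℚ)) < 21 / 10 := by
  classical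
  rw [← Finset.sum_union hd]
  obtain ⟨M, hM⟩ := exists_bound (C ∪ X)
  have h1 := smooth_sum (C := C ∪ X) (I := Finset.range (M + 1)) (J := {0}) (K := (Finset.range (M + 1)).erase 1)
    (by
      intro c hc
      obtain ⟨i, k, hk, h⟩ : ∃ i k : ℕ, k ≠ 1 ∧ c = 2 ^ i * 5 ^ k := by
        rcases Finset.mem_union.1 hc with h | h
        · exact hC c h
        · exact hX c h
      have h' : c = 2 ^ i * 3 ^ 0 * 5 ^ k := by rw [h]; ring
      obtain ⟨a1, a2, a3⟩ := hM c hc i 0 k h'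
      exact ⟨i, Finset.mem_range.2 (by omega), 0, by simp, k,
        Finset.mem_erase.2 ⟨hk, Finset.mem_range.2 (by omega)⟩, h'⟩)
  refine lt_of_le_of_lt h1 ?_
  have g2 := geom2 (M + 1)
  have g5 := geom5 (M + 1)
  have p5 : (0 : ℚ) < ∑ i ∈ (Finset.range (M + 1)).erase 1, (1 / 5 : ℚ) ^ i :=
    Finset.sum_pos (fun i _ => by positivity) ⟨0, by simp⟩
  simp only [Finset.sum_singleton, pow_zero, mul_one]
  calc _ < 2 * (∑ k ∈ (Finset.range (M + 1)).erase 1, (1 / 5 : ℚ) ^ k) := mul_lt_mul_of_pos_right g2 p5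
    _ ≤ _ := by linarith

end Cfsg.Agent.H668.DS
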