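import Mathlib
import Cfsg.Agent.H535.AHDefs
import Cfsg.Agent.H668.DSa
import Cfsg.Agent.H668.DSn

/-!
# S4162, the end game (helper668)

* `s3_of_six` : a non-commutative group of order 6 (helper341's proof);
* `two_case` : a self-centralizing involution in a group with distinct class sizes;
* `end_game` : the numerical end of the proof.
-/

set_option autoImplicit false

open Subgroup Cfsg.Agent.AH

namespace Cfsg.Agent.H668.DSend

/-- A non-commutative group of order 6 (copied from helper341's `SelfThree`). -/
theorem s3_of_six {Q : Type*} [Group Q] [Finite Q] (h6 : Nat.card Q = 6) (hne : ¬ ∀ a b : Q, a * b = b * a) :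
    Nonempty (Q ≃* Equiv.Perm (Fin 3)) := by
  classical
  have : Fact (Nat.Prime 2) := ⟨Nat.prime_two⟩
  have : Fact (Nat.Prime 3) := ⟨Nat.prime_three⟩
  obtain ⟨s, hs⟩ := exists_prime_orderOf_dvd_card' (G := Q) 2 (by rw [h6]; norm_num)
  obtain ⟨x, hx⟩ := exists_prime_orderOf_dvd_card' (G := Q) 3 (by rw [h6]; norm_num)
  have hH : Nat.card (zpowers s) = 2 := by rw [Nat.card_zpowers, hs]
  have hind : (zpowers s).index = 3 := by
    have := (zpowers s).card_mul_index
    rw [hH, h6] at this
    omega
  let φ : Q →* Equiv.Perm (Q ⧸ zpowers s) := MulAction.toPermHom Q (Q ⧸ zpowers s)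
  have hinj : Function.Injective φ := by
    rw [← MonoidHom.ker_eq_bot_iff, ← normalCore_eq_ker]
    have hle := normalCore_le (zpowers s)
    have hdvd : Nat.card (zpowers s).normalCore ∣ 2 := by
      rw [← hH]
      exact card_dvd_of_le hle
    rcases (Nat.dvd_prime Nat.prime_two).1 hdvd with h1 | h1
    · exact card_eq_one.1 h1
    · exfalso
      have h2 : (zpowers s).normalCore = zpowers s := eq_of_le_of_card_ge hle (by rw [h1, hH])
      have hn : (zpowers s).Normal := by rw [← h2]; exact normalCore_normal _
      -- `s` is central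
      have hsc : ∀ g : Q, g * s = s * g := by
        intro g
        have h3 := hn.conj_mem s (mem_zpowers s) g
        obtain ⟨k, hk⟩ := h3
        have hk' : s ^ k = g * s * g⁻¹ := hk
        have hs2 : s ^ (2 : ℤ) = 1 := by
          have := pow_orderOf_eq_one s
          rw [hs] at this
          exact_mod_cast this
        rcases Int.even_or_odd' k with ⟨m, rfl | rfl⟩
        · exfalso
          rw [zpow_mul, hs2, one_zpow] at hk'
          have : s = 1 := by
            have := congrArg (fun y => g⁻¹ * y * g) hk'.symm
            simpa [mul_assoc] using this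
          rw [this, orderOf_one] at hs
          omega
        · rw [zpow_add, zpow_mul, hs2, one_zpow, one_mul, zpow_one] at hk'
          calc g * s = g * s * g⁻¹ * g := by group
            _ = s * g := by rw [← hk']
      apply hne
      -- `s x` has order 6
      have ho : orderOf (s * x) = 6 := by
        have hc : Commute s x := (hsc x).symm
        rw [hc.orderOf_mul_eq_mul_orderOf_of_coprime (by rw [hs, hx]; norm_num), hs, hx]
      have hcyc : ∀ y : Q, y ∈ zpowers (s * x) := by
        intro y
        have h3 : zpowers (s * x) = ⊤ := by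
          apply eq_top_of_card_eq
          rw [Nat.card_zpowers, ho, h6]
        rw [h3]; exact mem_top y
      intro a b
      obtain ⟨i, hi⟩ := hcyc a
      obtain ⟨j, hj⟩ := hcyc b
      have hi' : (s * x) ^ i = a := hi
      have hj' : (s * x) ^ j = b := hj
      rw [← hi', ← hj', ← zpow_add, ← zpow_add, add_comm]
  have hcard : Nat.card (Q ⧸ zpowers s) = 3 := hind
  let e : (Q ⧸ zpowers s) ≃ Fin 3 := Finite.equivFinOfCardEq hcard
  let ψ : Q →* Equiv.Perm (Fin 3) := (e.permCongrHom : Equiv.Perm (Q ⧸ zpowers s) →* Equiv.Perm (Fin 3)).comp φ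
  have hψ : Function.Injective ψ := e.permCongrHom.injective.comp hinj
  have hb : Function.Bijective ψ := by
    rw [Nat.bijective_iff_injective_and_card]
    refine ⟨hψ, ?_⟩
    rw [h6, Nat.card_eq_fintype_card, Fintype.card_perm, Fintype.card_fin]
    rfl
  exact ⟨MulEquiv.ofBijective ψ hb⟩


theorem cent_one {G : Type*} [Group G] : cent (1 : G) = Nat.card G := by
  unfold cent
  have : Subgroup.centralizer ({1} : Set G) = ⊤ := by
    rw [eq_top_iff]
    intro g _
    rw [mem_centralizer_singleton_iff, mul_one, one_mul]
  rw [this, Subgroup.card_top]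

theorem nontriv_cent {G : Type*} [Group G] [Finite G] [Nontrivial G] (x : G) : cent x ≠ 1 := by
  intro h
  have h1 : Subgroup.centralizer ({x} : Set G) = ⊥ := Subgroup.eq_bot_of_card_eq _ h
  have h2 : x ∈ Subgroup.centralizer ({x} : Set G) := by
    rw [mem_centralizer_singleton_iff]
  rw [h1, Subgroup.mem_bot] at h2
  rw [h2, cent_one] at h
  have := Finite.one_lt_card (α := G)
  omega

/-- A self-centralizing involution. -/
theorem two_case {G : Type*} [Group G] [Finite G] (hAH : IsAH G) (x : G) (hx : cent x = 2) :
    Nonempty (G ≃* Equiv.Perm (Fin 3)) := by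
  classical
  have hf2 : Fact (Nat.Prime 2) := ⟨Nat.prime_two⟩
  have hxC : x ∈ Subgroup.centralizer ({x} : Set G) := by
    rw [mem_centralizer_singleton_iff]
  -- `x ≠ 1`
  have hx1 : x ≠ 1 := by
    rintro rfl
    have h1 : Nat.card G = 2 := by rw [← cent_one, hx]
    obtain ⟨y, hy⟩ := exists_prime_orderOf_dvd_card' (G := G) 2 (by rw [h1])
    have h2 : cent y = 2 := by
      unfold cent
      have : Subgroup.centralizer ({y} : Set G) = ⊤ := by
        have hz : zpowers y = ⊤ := by
          apply eq_top_of_card_eq
          rw [Nat.card_zpowers, hy, h1]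
        rw [eq_top_iff, ← hz, zpowers_le, mem_centralizer_singleton_iff]
      rw [this, card_top, h1]
    have h3 := isConj_of_cent_eq hAH (hx.trans h2.symm)
    rw [isConj_comm, isConj_one_left] at h3
    rw [h3, orderOf_one] at hy
    omega
  have hxx : x * x = 1 := by
    have h1 : (⟨x, hxC⟩ : Subgroup.centralizer ({x} : Set G)) ^ 2 = 1 := by
      have := pow_card_eq_one' (x := (⟨x, hxC⟩ : Subgroup.centralizer ({x} : Set G)))
      have h2 : Nat.card (Subgroup.centralizer ({x} : Set G)) = 2 := hx
      rwa [h2] at this
    have h2 := congrArg Subtype.val h1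
    simpa [pow_two] using h2
  have hxo : orderOf x = 2 := orderOf_eq_prime (by rw [pow_two, hxx]) hx1
  have hCz : Subgroup.centralizer ({x} : Set G) = zpowers x := by
    symm
    apply eq_of_le_of_card_ge
    · rw [zpowers_le]; exact hxC
    · rw [Nat.card_zpowers, hxo]; exact hx.le
  have hCm : ∀ g : G, g * x = x * g → g = 1 ∨ g = x := by
    intro g hg
    have h1 : g ∈ zpowers x := by
      rw [← hCz, mem_centralizer_singleton_iff]; exact hg
    obtain ⟨k, hk⟩ := h1
    have hk' : x ^ k = g := hk
    have hx2 : x ^ (2 : ℤ) = 1 := by rw [zpow_two, hxx]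
    rcases Int.even_or_odd' k with ⟨m, rfl | rfl⟩
    · left; rw [← hk', zpow_mul, hx2, one_zpow]
    · right; rw [← hk', zpow_add, zpow_mul, hx2, one_zpow, one_mul, zpow_one]
  -- the Sylow 2-subgroup
  have hp : IsPGroup 2 (zpowers x) := IsPGroup.of_card (n := 1) (by rw [Nat.card_zpowers, hxo, pow_one])
  obtain ⟨P, hP⟩ := hp.exists_le_sylow
  have hxP : x ∈ (P : Subgroup G) := hP (mem_zpowers x)
  have hPe : (P : Subgroup G) = zpowers x := by
    have hPn : Nontrivial P := ⟨⟨⟨x, hxP⟩, 1, fun h => hx1 (congrArg Subtype.val h)⟩⟩
    have hZ : Nontrivial (Subgroup.center P) := P.2.center_nontrivial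
    obtain ⟨⟨z, hzZ⟩, hz1⟩ := exists_ne (1 : Subgroup.center P)
    have hz2 : (z : G) = x := by
      rcases hCm z (by
        have := congrArg Subtype.val (mem_center_iff.1 hzZ ⟨x, hxP⟩)
        exact this.symm) with h | h
      · exfalso
        apply hz1
        ext
        exact h
      · exact h
    refine le_antisymm ?_ hP
    intro g hg
    rw [← hCz, mem_centralizer_singleton_iff, ← hz2]
    exact congrArg Subtype.val (mem_center_iff.1 hzZ ⟨g, hg⟩)
  have hN : normalizer (P : Subgroup G) ≤ Subgroup.centralizer (P : Set G) := by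
    intro g hg
    rw [mem_centralizer_iff]
    intro h hh
    have hh' : h ∈ (P : Subgroup G) := hh
    have hgx : g * x * g⁻¹ = x := by
      have h1 : g * x * g⁻¹ ∈ (P : Subgroup G) := ((mem_normalizer_iff.1 hg) x).1 hxP
      rw [hPe, ← hCz, mem_centralizer_singleton_iff] at h1
      rcases hCm _ h1 with h2 | h2
      · exfalso
        apply hx1
        have := congrArg (fun y => g⁻¹ * y * g) h2
        simpa [mul_assoc] using this
      · exact h2
    have hgx' : g * x = x * g := by
      calc g * x = g * x * g⁻¹ * g := by group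
        _ = _ := by rw [hgx]
    rw [hPe, ← hCz, mem_centralizer_singleton_iff] at hh'
    rcases hCm h hh' with h2 | h2
    · rw [h2]; group
    · rw [h2]; exact hgx'.symm
  have hcomp := MonoidHom.ker_transferSylow_isComplement' P hN
  set K : Subgroup G := (MonoidHom.transferSylow P hN).ker with hK
  have hKn : K.Normal := MonoidHom.normal_ker _
  have hKi : K.index = 2 := by
    have h1 : Nat.card (P : Subgroup G) = 2 := by rw [hPe, Nat.card_zpowers, hxo]
    rw [← h1]
    exact hcomp.symm.index_eq_card
  have hKodd : ¬ 2 ∣ Nat.card K := MonoidHom.not_dvd_card_ker_transferSylow P hN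
  have hcG : Nat.card G = 2 * Nat.card K := by rw [← K.card_mul_index, hKi, mul_comm]
  have hxK : x ∉ K := by
    intro h
    apply hKodd
    rw [← hxo]
    exact Subgroup.orderOf_dvd_natCard K h
  -- the elements outside `K` are the conjugates of `x`
  have hout : ∀ g : G, g ∉ K → IsConj x g := by
    have hS : ({y : G | IsConj x y} : Set G) = (K : Set G)ᶜ := by
      apply Set.eq_of_subset_of_ncard_le
      · intro y hy hyK
        obtain ⟨c, hc⟩ := isConj_iff.1 (show IsConj x y from hy)
        apply hxK
        have := hKn.conj_mem y hyK c⁻¹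
        rw [← hc] at this
        simpa [mul_assoc] using this
      · have h1 := DS.card_conj_mul_cc x
        have h2 : DS.cc x = 2 := hx
        rw [h2] at h1
        have h3 := Set.ncard_add_ncard_compl (K : Set G)
        have h4 : (K : Set G).ncard = Nat.card K := rfl
        have h5 : ({y : G | IsConj x y} : Set G).ncard = Nat.card {y : G // IsConj x y} := rfl
        omega
      · exact Set.toFinite _
    intro g hg
    have : g ∈ ({y : G | IsConj x y} : Set G) := by rw [hS]; exact hg
    exact this
  have hinv : ∀ g : G, g ∉ K → g * g = 1 := by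
    intro g hg
    obtain ⟨c, hc⟩ := isConj_iff.1 (hout g hg)
    rw [← hc]
    calc c * x * c⁻¹ * (c * x * c⁻¹) = c * (x * x) * c⁻¹ := by group
      _ = 1 := by rw [hxx]; group
  have hmul : ∀ g k : G, g ∉ K → k ∈ K → g * k ∉ K := by
    intro g k hg hk h
    exact hg ((K.mul_mem_cancel_right hk).1 h)
  have hact : ∀ g k : G, g ∉ K → k ∈ K → g * k * g = k⁻¹ := by
    intro g k hg hk
    have h1 := hinv _ (hmul g k hg hk)
    rw [eq_inv_iff_mul_eq_one, ← h1]
    group
  have hKc : ∀ a ∈ K, ∀ b ∈ K, a * b = b * a := by
    intro a ha b hb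
    have h1 := hact x a hxK ha
    have h2 := hact x b hxK hb
    have h3 := hact x (a * b) hxK (K.mul_mem ha hb)
    have h4 : x * (a * b) * x = (x * a * x) * (x * b * x) := by
      calc x * (a * b) * x = x * a * 1 * b * x := by group
        _ = x * a * (x * x) * b * x := by rw [hxx]
        _ = _ := by group
    rw [h4, h1, h2, mul_inv_rev] at h3
    have h5 := congrArg (fun y => y⁻¹) h3
    simpa using h5.symm
  have hcK : ∀ k ∈ K, k ≠ 1 → cent k = Nat.card K := by
    intro k hk hk1
    have : Subgroup.centralizer ({k} : Set G) = K := by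
      apply le_antisymm
      · intro g hg
        rw [mem_centralizer_singleton_iff] at hg
        by_contra hgK
        have h1 := hact g k hgK hk
        rw [hg, mul_assoc, hinv g hgK, mul_one] at h1
        apply hKodd
        have h2 : orderOf k = 2 := by
          apply orderOf_eq_prime _ hk1
          rw [pow_two]
          nth_rewrite 1 [h1]
          exact inv_mul_cancel k
        rw [← h2]
        exact Subgroup.orderOf_dvd_natCard K hk
      · intro g hg
        rw [mem_centralizer_singleton_iff]
        exact hKc g hg k hk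
    unfold cent
    rw [this]
  have hK1 : Nat.card K ≠ 1 := by
    intro h
    have h1 : cent (1 : G) = cent x := by rw [cent_one, hcG, h, hx]
    have h3 := isConj_of_cent_eq hAH h1
    rw [isConj_comm, isConj_one_left] at h3
    exact hx1 h3
  have hK3 : Nat.card K ≤ 3 := by
    have hKb : K ≠ ⊥ := by
      rintro h
      apply hK1
      rw [h, card_bot]
    obtain ⟨k, hk, hk1⟩ := K.bot_or_exists_ne_one.resolve_left hKb
    have h1 := DS.card_conj_mul_cc k
    have h2 : DS.cc k = Nat.card K := hcK k hk hk1
    rw [h2, hcG] at h1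
    have h3 : Nat.card {y : G // IsConj k y} = 2 := Nat.eq_of_mul_eq_mul_right Nat.card_pos h1
    have h4 : (K : Set G) ⊆ insert 1 {y : G | IsConj k y} := by
      intro y hy
      rw [Set.mem_insert_iff]
      by_cases hy1 : y = 1
      · left; exact hy1
      · right
        exact isConj_of_cent_eq hAH ((hcK k hk hk1).trans (hcK y hy hy1).symm)
    have h5 := Set.ncard_le_ncard h4 (Set.toFinite _)
    have h6 := Set.ncard_insert_le (1 : G) {y : G | IsConj k y}
    have h7 : (K : Set G).ncard = Nat.card K := rfl
    have h8 : ({y : G | IsConj k y} : Set G).ncard = Nat.card {y : G // IsConj k y} := rfl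
    omega
  have hKe : Nat.card K = 3 := by
    have : 0 < Nat.card K := Nat.card_pos
    omega
  apply s3_of_six (by rw [hcG, hKe])
  intro hcomm
  have h1 : cent x = Nat.card G := by
    unfold cent
    have : Subgroup.centralizer ({x} : Set G) = ⊤ := by
      rw [eq_top_iff]
      intro g _
      rw [mem_centralizer_singleton_iff]
      exact hcomm g x
    rw [this, card_top]
  rw [hx, hcG, hKe] at h1
  omega

/-- Numbers with prime divisors at most 5. -/
theorem smooth {n : ℕ} (hn : n ≠ 0) (h : ∀ q, q.Prime → q ∣ n → q ≤ 5) :
    n = 2 ^ n.factorization 2 * 3 ^ n.factorization 3 * 5 ^ n.factorization 5 := by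
  conv_lhs => rw [← Nat.prod_factorization_pow_eq_self hn]
  rw [Finsupp.prod_of_support_subset (s := {2, 3, 5})]
  · rw [Finset.prod_insert (by decide), Finset.prod_insert (by decide), Finset.prod_singleton]
    ring
  · intro q hq
    rw [Nat.support_factorization, Nat.mem_primeFactors] at hq
    have h1 := h q hq.1 hq.2.1
    have h2 := hq.1.two_le
    interval_cases q
    · simp
    · simp
    · exfalso
      exact absurd hq.1 (by decide)
    · simp
  · intro i _
    exact pow_zero i

/-- Small divisor sums. -/
theorem small_sum : ∀ n : ℕ, n < 15 → 0 < n → ∑ d ∈ (n.divisors.filter (fun d : ℕ => 3 ≤ d) : Finset ℕ), (1 / ((d : ℕ) : ℚ)) < 1 := by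
  intro n hn h0
  interval_cases n <;> decide +kernel

theorem end_game {G : Type*} [Group G] [Finite G] [Nontrivial G] (hAH : IsAH G)
    (hpr : ∀ q, q.Prime → q ∣ Nat.card G → q ≤ 5)
    (h25 : ∀ x : G, 5 ∣ cent x → 25 ∣ cent x)
    (h125 : ∀ x : G, 25 ∣ cent x → ¬ 125 ∣ cent x → 3 ∣ cent x)
    (h4 : 5 ∣ Nat.card G → ∀ x : G, cent x ≠ 4)
    (h16 : ∀ x : G, cent x = 4 → ¬ 16 ∣ Nat.card G)
    (h3 : ∀ x : G, cent x = 3 → ∀ g : G, 3 ∣ cent g → g = 1 ∨ IsConj g x) :
    Nonempty (G ≃* Equiv.Perm (Fin 3)) := by
  classical
  by_cases hex2 : ∃ x : G, cent x = 2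
  · obtain ⟨x, hx⟩ := hex2
    exact two_case hAH x hx
  exfalso
  push Not at hex2
  have hft : Fintype G := Fintype.ofFinite G
  have hD : DS.Dist G := DS.dist_of_inj hAH
  set C : Finset ℕ := Finset.univ.image (fun x : G => cent x) with hC
  have hsum : ∑ d ∈ C, (1 / (d : ℚ)) = 1 := by
    have h1 := DS.sum_inv_cc hD
    have h2 : Finset.univ.image (fun x : G => DS.cc x) = C := by
      rw [hC]
      rfl
    rw [h2] at h1
    exact h1
  have hmem : ∀ c ∈ C, ∃ x : G, cent x = c := by
    intro c hc
    obtain ⟨x, -, hx⟩ := Finset.mem_image.1 hc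
    exact ⟨x, hx⟩
  -- the shape of the elements of `C`
  have hpos : ∀ c ∈ C, 0 < c := by
    intro c hc
    obtain ⟨x, rfl⟩ := hmem c hc
    exact cent_pos x
  have hge3 : ∀ c ∈ C, 3 ≤ c := by
    intro c hc
    have h0 := hpos c hc
    obtain ⟨x, rfl⟩ := hmem c hc
    have h1 := nontriv_cent x
    have h2 := hex2 x
    omega
  have hsm : ∀ c ∈ C, c = 2 ^ c.factorization 2 * 3 ^ c.factorization 3 * 5 ^ c.factorization 5 := by
    intro c hc
    have h0 := hpos c hc
    obtain ⟨x, rfl⟩ := hmem c hc
    apply smooth h0.ne'
    intro q hq hqd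
    exact hpr q hq (hqd.trans (cent_dvd x))
  have hk1 : ∀ c ∈ C, c.factorization 5 ≠ 1 := by
    intro c hc h1
    have h0 := hpos c hc
    obtain ⟨x, rfl⟩ := hmem c hc
    have h2 : 5 ∣ cent x := by
      rw [Nat.Prime.dvd_iff_one_le_factorization (by norm_num) h0.ne', h1]
    have h3 := h25 x h2
    have h4 : 5 ^ 2 ∣ cent x := h3
    rw [Nat.Prime.pow_dvd_iff_le_factorization (by norm_num) h0.ne', h1] at h4
    omega
  by_cases hex3 : ∃ x : G, cent x = 3
  · obtain ⟨x, hx⟩ := hex3
    by_cases hn : Nat.card G < 15
    · -- small orders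
      have h1 := small_sum (Nat.card G) hn Nat.card_pos
      have h2 : C ⊆ (Nat.card G).divisors.filter (fun d : ℕ => 3 ≤ d) := by
        intro c hc
        rw [Finset.mem_filter, Nat.mem_divisors]
        refine ⟨⟨?_, Nat.card_pos.ne'⟩, hge3 c hc⟩
        obtain ⟨y, rfl⟩ := hmem c hc
        exact cent_dvd y
      have h5 := Finset.sum_le_sum_of_subset_of_nonneg (f := fun d : ℕ => (1 / (d : ℚ))) h2
        (fun d _ _ => by positivity)
      rw [hsum] at h5
      linarith
    · push Not at hn
      -- `C = {|G|, 3} ∪ C'`
      set C' : Finset ℕ := C.filter (fun c => ¬ 3 ∣ c) with hC'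
      have h1 : C ⊆ {Nat.card G, 3} ∪ C' := by
        intro c hc
        rw [Finset.mem_union, hC', Finset.mem_filter]
        by_cases h3c : 3 ∣ c
        · left
          obtain ⟨y, rfl⟩ := hmem c hc
          rw [Finset.mem_insert, Finset.mem_singleton]
          rcases h3 x hx y h3c with h | h
          · left; rw [h, cent_one]
          · right; rw [cent_conj_eq h, hx]
        · exact Or.inr ⟨hc, h3c⟩
      have h2 := Finset.sum_le_sum_of_subset_of_nonneg (f := fun d : ℕ => (1 / (d : ℚ))) h1
        (fun d _ _ => by positivity)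
      have h5 : ∑ d ∈ {Nat.card G, 3} ∪ C', (1 / (d : ℚ)) ≤
          ∑ d ∈ ({Nat.card G, 3} : Finset ℕ), (1 / (d : ℚ)) + ∑ d ∈ C', (1 / (d : ℚ)) := by
        rw [← Finset.sum_union_inter (s₁ := ({Nat.card G, 3} : Finset ℕ)) (s₂ := C')]
        have : 0 ≤ ∑ d ∈ ({Nat.card G, 3} : Finset ℕ) ∩ C', (1 / (d : ℚ)) :=
          Finset.sum_nonneg (fun d _ => by positivity)
        linarith
      have h6 : ∑ d ∈ ({Nat.card G, 3} : Finset ℕ), (1 / (d : ℚ)) ≤ 1 / 15 + 1 / 3 := by
        rw [Finset.sum_pair (by omega)]
        have h7 : (15 : ℚ) ≤ (Nat.card G : ℚ) := by exact_mod_cast hn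
        have h8 : (1 : ℚ) / (Nat.card G : ℚ) ≤ 1 / 15 := by
          apply one_div_le_one_div_of_le (by norm_num) h7
        push_cast
        linarith
      have h7 := DS.bound25 C' {1, 2} (by
          intro c hc
          rw [hC', Finset.mem_filter] at hc
          refine ⟨c.factorization 2, c.factorization 5, hk1 c hc.1, ?_⟩
          have h8 := hsm c hc.1
          rw [Nat.factorization_eq_zero_of_not_dvd hc.2, pow_zero, mul_one] at h8
          exact h8) (by
          intro c hc
          rw [Finset.mem_insert, Finset.mem_singleton] at hc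
          rcases hc with rfl | rfl
          · exact ⟨0, 0, by norm_num, by norm_num⟩
          · exact ⟨1, 0, by norm_num, by norm_num⟩) (by
          rw [Finset.disjoint_left]
          intro c hc hc2
          rw [hC', Finset.mem_filter] at hc
          have h8 := hge3 c hc.1
          rw [Finset.mem_insert, Finset.mem_singleton] at hc2
          omega)
      rw [Finset.sum_pair (by norm_num)] at h7
      rw [hsum] at h2
      norm_num at h2 h5 h6 h7
      linarith
  · push Not at hex3
    by_cases hex4 : ∃ x : G, cent x = 4
    · obtain ⟨x, hx⟩ := hex4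
      have hn5 : ¬ 5 ∣ Nat.card G := fun h => h4 h x hx
      have hn16 := h16 x hx
      have h7 := DS.bound3' C {1, 2, 3} (by
          intro c hc
          have h8 := hsm c hc
          have h0 := hpos c hc
          obtain ⟨y, rfl⟩ := hmem c hc
          refine ⟨(cent y).factorization 2, (cent y).factorization 3, ?_, ?_⟩
          · by_contra h9
            push Not at h9
            apply hn16
            have h10 : 2 ^ 4 ∣ cent y := by
              rw [Nat.Prime.pow_dvd_iff_le_factorization (by norm_num) h0.ne']
              exact h9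
            exact h10.trans (cent_dvd y)
          · have h10 : ¬ 5 ∣ cent y := fun h => hn5 (h.trans (cent_dvd y))
            rw [Nat.factorization_eq_zero_of_not_dvd h10, pow_zero, mul_one] at h8
            exact h8) (by
          intro c hc
          simp only [Finset.mem_insert, Finset.mem_singleton] at hc
          rcases hc with rfl | rfl | rfl
          · exact ⟨0, 0, by norm_num, by norm_num⟩
          · exact ⟨1, 0, by norm_num, by norm_num⟩
          · exact ⟨0, 1, by norm_num, by norm_num⟩) (by
          rw [Finset.disjoint_left]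
          intro c hc hc2
          have h8 := hge3 c hc
          simp only [Finset.mem_insert, Finset.mem_singleton] at hc2
          obtain ⟨y, hy⟩ := hmem c hc
          have h9 := hex3 y
          omega)
      rw [hsum, Finset.sum_insert (by decide), Finset.sum_pair (by norm_num)] at h7
      norm_num at h7
    · push Not at hex4
      have h7 := DS.bound5 C {1, 2, 3, 4, 25, 50, 100} (by
          intro c hc
          exact ⟨c.factorization 2, c.factorization 3, c.factorization 5, hk1 c hc, hsm c hc⟩) (by
          intro c hc
          simp only [Finset.mem_insert, Finset.mem_singleton] at hc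
          rcases hc with rfl | rfl | rfl | rfl | rfl | rfl | rfl
          · exact ⟨0, 0, 0, by norm_num, by norm_num⟩
          · exact ⟨1, 0, 0, by norm_num, by norm_num⟩
          · exact ⟨0, 1, 0, by norm_num, by norm_num⟩
          · exact ⟨2, 0, 0, by norm_num, by norm_num⟩
          · exact ⟨0, 0, 2, by norm_num, by norm_num⟩
          · exact ⟨1, 0, 2, by norm_num, by norm_num⟩
          · exact ⟨2, 0, 2, by norm_num, by norm_num⟩) (by
          rw [Finset.disjoint_left]
          intro c hc hc2
          have h8 := hge3 c hc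
          simp only [Finset.mem_insert, Finset.mem_singleton] at hc2
          obtain ⟨y, hy⟩ := hmem c hc
          have h9 := hex3 y
          have h10 := hex4 y
          have h11 := h125 y
          rw [hy] at h9 h10 h11
          rcases hc2 with rfl | rfl | rfl | rfl | rfl | rfl | rfl
          · omega
          · omega
          · omega
          · omega
          · exact absurd (h11 (by decide) (by decide)) (by decide)
          · exact absurd (h11 (by decide) (by decide)) (by decide)
          · exact absurd (h11 (by decide) (by decide)) (by decide))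
      rw [hsum, Finset.sum_insert (by decide), Finset.sum_insert (by decide), Finset.sum_insert (by decide),
        Finset.sum_insert (by decide), Finset.sum_insert (by decide), Finset.sum_pair (by norm_num)] at h7
      norm_num at h7

end Cfsg.Agent.H668.DSend
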