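import Cfsg.Agent.H668.FourGroupA
import Cfsg.Agent.CharactersDeep.QuatSylow
import Cfsg.Agent.TwoFusion.QuatCoverSL
import Cfsg.Agent.Solvable.UniqueOrderP

/-!
# Group-theoretic part of S4758, `u` of order four
-/

set_option autoImplicit false
set_option linter.unusedSectionVars false
set_option linter.style.haveILetI false
open Cfsg Cfsg.Agent.H668.FourGroup Cfsg.Agent.H668.FourGroupA

namespace Cfsg.Agent.H668.FourGroupB

variable {G : Type*} [Group G] [Finite G]

theorem centralizer_eq {u : G} {N : Subgroup G} (h : Pack u N) (hu4 : orderOf u = 4) {x : G}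
    (hx : IsConj x u) : Subgroup.centralizer ({x} : Set G) = Subgroup.zpowers x := by
  symm
  apply Subgroup.eq_of_le_of_card_ge
  · rw [Subgroup.zpowers_le, Subgroup.mem_centralizer_singleton_iff]
  · rw [card_centralizer_of_isConj hx, h.cent, Nat.card_zpowers, orderOf_of_isConj hx, hu4]

/-- Involutions in a cyclic group of order four. -/
theorem eq_sq_of_mem_zpowers {x y : G} (hx : orderOf x = 4) (hy : y ∈ Subgroup.zpowers x)
    (hy2 : y ^ 2 = 1) : y = 1 ∨ y = x ^ 2 := by
  rw [← mem_powers_iff_mem_zpowers] at hy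
  obtain ⟨k, rfl⟩ := hy
  simp only at hy2 ⊢
  rw [← pow_mul, ← orderOf_dvd_iff_pow_eq_one, hx] at hy2
  have h2 : 2 ∣ k := by omega
  obtain ⟨m, rfl⟩ := h2
  have h3 : x ^ 4 = 1 := by rw [← hx]; exact pow_orderOf_eq_one x
  rcases Nat.even_or_odd' m with ⟨l, rfl | rfl⟩
  · left
    rw [show 2 * (2 * l) = 4 * l by ring, pow_mul, h3, one_pow]
  · right
    rw [show 2 * (2 * l + 1) = 4 * l + 2 by ring, pow_add, pow_mul, h3, one_pow, one_mul]

/-- The structure of a Sylow 2-subgroup containing `u`. -/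
theorem sylow_inverts {u : G} {N : Subgroup G} (h : Pack u N) (hu4 : orderOf u = 4)
    (P : Sylow 2 G) (huP : u ∈ P) :
    (∀ t ∈ (P : Subgroup G), t ∈ N → u * t * u⁻¹ = t⁻¹) ∧
      ∀ t ∈ (P : Subgroup G), t ∈ N → t ^ 2 = 1 → t = 1 ∨ t = u ^ 2 := by
  have hPconj : ∀ x ∈ (P : Subgroup G), x ∉ N → IsConj x u := by
    intro x hx hxN
    obtain ⟨k, hk⟩ := P.2 ⟨x, hx⟩
    have hk' : x ^ 2 ^ k = 1 := by
      have := congrArg Subtype.val hk
      simpa using this
    exact h.conj k x hk' hxN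
  have hu22 : (u ^ 2) ^ 2 = 1 := by
    rw [← pow_mul, ← orderOf_dvd_iff_pow_eq_one, hu4]
  have hu21 : u ^ 2 ≠ 1 := by
    intro h1
    have := orderOf_dvd_of_pow_eq_one h1
    rw [hu4] at this
    norm_num at this
  -- `u²` is central in `P`
  have hcenP : ∀ x ∈ (P : Subgroup G), x * u ^ 2 = u ^ 2 * x := by
    have hnt : Nontrivial (P : Subgroup G) := ⟨⟨1, ⟨u, huP⟩, fun h1 => h.notMem (by
      have h2 : (1 : G) = u := congrArg Subtype.val h1
      rw [← h2]; exact one_mem N)⟩⟩
    have hZ : Nontrivial (Subgroup.center (P : Subgroup G)) := P.2.center_nontrivial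
    have hZp : IsPGroup 2 (Subgroup.center (P : Subgroup G)) := P.2.to_subgroup _
    have hdvd : 2 ∣ Nat.card (Subgroup.center (P : Subgroup G)) := by
      obtain ⟨n, hn, hc⟩ := hZp.nontrivial_iff_card.1 hZ
      rw [hc]; exact dvd_pow_self _ hn.ne'
    obtain ⟨⟨⟨c, hcP⟩, hcZ⟩, hc⟩ := exists_prime_orderOf_dvd_card' 2 hdvd
    have hc1 : orderOf c = 2 := by
      rw [← hc, ← Subgroup.orderOf_coe, ← Subgroup.orderOf_coe]
    have hcomm : ∀ x ∈ (P : Subgroup G), x * c = c * x := by
      intro x hx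
      have := (Subgroup.mem_center_iff.1 hcZ) ⟨x, hx⟩
      exact congrArg Subtype.val this
    have hcu : c ∈ Subgroup.zpowers u := by
      rw [← centralizer_eq h hu4 (IsConj.refl u), Subgroup.mem_centralizer_singleton_iff]
      exact (hcomm u huP).symm
    rcases eq_sq_of_mem_zpowers hu4 hcu (by rw [← hc1]; exact pow_orderOf_eq_one c) with h1 | h1
    · rw [h1, orderOf_one] at hc1; norm_num at hc1
    · rw [← h1]; exact hcomm
  have hsq : ∀ x ∈ (P : Subgroup G), x ∉ N → x ^ 2 = u ^ 2 := by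
    intro x hx hxN
    have h1 := hPconj x hx hxN
    have h2 : u ^ 2 ∈ Subgroup.zpowers x := by
      rw [← centralizer_eq h hu4 h1, Subgroup.mem_centralizer_singleton_iff]
      exact (hcenP x hx).symm
    rcases eq_sq_of_mem_zpowers (by rw [orderOf_of_isConj h1, hu4]) h2 hu22 with h3 | h3
    · exact absurd h3 hu21
    · exact h3.symm
  have hinv : ∀ t ∈ (P : Subgroup G), t ∈ N → u * t * u⁻¹ = t⁻¹ := by
    intro t ht htN
    have h1 : u * t ∉ N := by
      intro h2
      exact h.notMem ((Subgroup.mul_mem_cancel_right N htN).1 h2)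
    have h2 := hsq (u * t) (mul_mem huP ht) h1
    have h3 : t * u * t = u := by
      have : u * (t * u * t) = u * u := by
        calc u * (t * u * t) = (u * t) ^ 2 := by rw [sq]; group
          _ = u ^ 2 := h2
          _ = u * u := sq u
      exact mul_left_cancel this
    rw [eq_inv_iff_mul_eq_one]
    have h4 : u * t = t⁻¹ * u := by
      rw [eq_inv_mul_iff_mul_eq, ← mul_assoc]; exact h3
    rw [h4]; group
  refine ⟨hinv, ?_⟩
  intro t ht htN ht2
  have h1 : t ∈ Subgroup.zpowers u := by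
    rw [← centralizer_eq h hu4 (IsConj.refl u), Subgroup.mem_centralizer_singleton_iff]
    have h2 := hinv t ht htN
    have h3 : t⁻¹ = t := by rw [inv_eq_iff_mul_eq_one, ← sq, ht2]
    rw [h3, mul_inv_eq_iff_eq_mul] at h2
    exact h2.symm
  exact eq_sq_of_mem_zpowers hu4 h1 ht2

end Cfsg.Agent.H668.FourGroupB
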