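import Cfsg.Agent.H668.FourGroupC

/-!
# Group-theoretic part of S4758, `u` of order four: `G / O(G)`
-/

set_option autoImplicit false
set_option linter.unusedSectionVars false
set_option linter.style.haveILetI false
open Cfsg Cfsg.Agent.H668.FourGroup Cfsg.Agent.H668.FourGroupA Cfsg.Agent.H668.FourGroupB
  Cfsg.Agent.H668.FourGroupC

namespace Cfsg.Agent.H668.FourGroupD

variable {G : Type*} [Group G] [Finite G]

/-- The structure of `M = O(G)` and `N = M ⟨u²⟩`. -/
structure Str (u : G) (N M : Subgroup G) (P : Sylow 2 G) : Prop where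
  pack : Pack u N
  ord : orderOf u = 4
  mem : u ∈ P
  normal : M.Normal
  odd : Odd (Nat.card M)
  le : M ≤ N
  fac : ∀ n ∈ N, ∃ m ∈ M, n = m ∨ n = m * u ^ 2
  two : ∀ t ∈ (P : Subgroup G), t ∈ N → t = 1 ∨ t = u ^ 2
  cen : ∀ n ∈ N, QuotientGroup.mk' M n ∈ Subgroup.center (G ⧸ M)
  core : oddCore G = M

theorem odd_inter {P : Sylow 2 G} {M : Subgroup G} (hM : Odd (Nat.card M)) {x : G}
    (hxP : x ∈ (P : Subgroup G)) (hxM : x ∈ M) : x = 1 := by
  obtain ⟨k, hk⟩ := P.2 ⟨x, hxP⟩
  have hk' : x ^ 2 ^ k = 1 := by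
    have := congrArg Subtype.val hk
    simpa using this
  have h1 : orderOf x ∣ 2 ^ k := orderOf_dvd_of_pow_eq_one hk'
  have h2 : orderOf x ∣ Nat.card M := by
    have := orderOf_dvd_natCard (⟨x, hxM⟩ : M)
    rwa [Subgroup.orderOf_mk] at this
  have h3 : Nat.Coprime (2 ^ k) (Nat.card M) :=
    Nat.Coprime.pow_left k (Nat.coprime_two_left.2 hM)
  rw [← orderOf_eq_one_iff]
  exact Nat.eq_one_of_dvd_coprimes h3 h1 h2

theorem exists_str {u : G} {N : Subgroup G} (h : Pack u N) (hu4 : orderOf u = 4) :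
    ∃ (M : Subgroup G) (P : Sylow 2 G), Str u N M P := by
  have hNn := h.normal
  have hp : IsPGroup 2 (Subgroup.zpowers u) := by
    rw [IsPGroup.iff_card]
    exact ⟨2, by rw [Nat.card_zpowers, hu4]; norm_num⟩
  obtain ⟨P, hP⟩ := hp.exists_le_sylow
  have huP : u ∈ (P : Subgroup G) := hP (Subgroup.mem_zpowers u)
  obtain ⟨hinv, htwo⟩ := sylow_inverts h hu4 P huP
  obtain ⟨M, hMn, hMo, hMN, hfac, hMall⟩ := exists_complement h hu4 P huP
  have hq := h.gen.quot M
  have hNb : (N.map (QuotientGroup.mk' M)).Normal := hNn.map _ (QuotientGroup.mk'_surjective M)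
  have hcen := hq.of_inverts (N.map (QuotientGroup.mk' M)) (by
    rintro _ ⟨n, hn, rfl⟩
    obtain ⟨m, hm, t, htP, htN, rfl⟩ := hfac n hn
    have h1 : QuotientGroup.mk' M m = 1 := (QuotientGroup.eq_one_iff m).2 hm
    rw [map_mul, h1, one_mul, ← map_mul, ← map_inv, ← map_mul, hinv t htP htN, map_inv])
  have hT : ∀ t ∈ (P : Subgroup G), t ∈ N → t = 1 ∨ t = u ^ 2 := by
    intro t ht htN
    apply htwo t ht htN
    have h1 := (hcen _ ⟨t, htN, rfl⟩).2
    rw [← map_pow] at h1
    exact odd_inter hMo (pow_mem ht 2) ((QuotientGroup.eq_one_iff _).1 h1)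
  refine ⟨M, P, h, hu4, huP, hMn, hMo, hMN, ?_, hT, fun n hn => (hcen _ ⟨n, hn, rfl⟩).1, ?_⟩
  · intro n hn
    obtain ⟨m, hm, t, htP, htN, rfl⟩ := hfac n hn
    rcases hT t htP htN with h1 | h1
    · exact ⟨m, hm, Or.inl (by rw [h1, mul_one])⟩
    · exact ⟨m, hm, Or.inr (by rw [h1])⟩
  · apply le_antisymm
    · intro x hx
      apply hMall x (oddCore_le h hx)
      have h1 : (Nat.card (oddCore G)).Coprime 2 := Lib.Cores.pPrimeCore_coprime 2
      have h2 : orderOf x ∣ Nat.card (oddCore G) := by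
        have := orderOf_dvd_natCard (⟨x, hx⟩ : oddCore G)
        rwa [Subgroup.orderOf_mk] at this
      exact Nat.coprime_two_right.1 (Nat.Coprime.coprime_dvd_left h2 h1)
    · exact Lib.Cores.le_pPrimeCore hMn (Nat.coprime_two_right.2 hMo)

variable {u : G} {N M : Subgroup G} {P : Sylow 2 G}

theorem Str.sq_ne (S : Str u N M P) : u ^ 2 ≠ 1 := by
  intro h1
  have := orderOf_dvd_of_pow_eq_one h1
  rw [S.ord] at this
  norm_num at this

theorem Str.sq_sq (S : Str u N M P) : (u ^ 2) ^ 2 = 1 := by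
  rw [← pow_mul, ← orderOf_dvd_iff_pow_eq_one, S.ord]

theorem Str.sq_notMem (S : Str u N M P) : u ^ 2 ∉ M := by
  intro h
  exact S.sq_ne (odd_inter S.odd (pow_mem S.mem 2) h)

theorem Str.relIndex (S : Str u N M P) : M.relIndex N = 2 := by
  rw [Subgroup.relIndex_eq_two_iff]
  refine ⟨u ^ 2, S.pack.sq, ?_⟩
  intro b hb
  obtain ⟨m, hm, h | h⟩ := S.fac b hb
  · right
    refine ⟨by rw [h]; exact hm, ?_⟩
    intro h2
    rw [h] at h2
    exact S.sq_notMem ((Subgroup.mul_mem_cancel_left M hm).1 h2)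
  · left
    constructor
    · rw [h, mul_assoc, ← sq, S.sq_sq, mul_one]; exact hm
    · intro h2
      rw [h] at h2
      exact S.sq_notMem ((Subgroup.mul_mem_cancel_left M hm).1 h2)

theorem Str.card_sylow (S : Str u N M P) : Nat.card (P : Subgroup G) = 8 := by
  have h1 : Nat.card N = Nat.card M * 2 := by
    rw [← S.relIndex]
    exact (Lib.SylowNormalInf.card_mul_relIndex M N S.le).symm
  have h2 : Nat.card G = 2 ^ 3 * (15 * Nat.card M) := by
    rw [S.pack.card, h1]; ring
  rw [P.card_eq_multiplicity, h2, Nat.factorization_mul (by norm_num)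
    (by have := Nat.card_pos (α := M); positivity), Finsupp.add_apply, Nat.factorization_pow,
    Finsupp.smul_apply, Nat.Prime.factorization_self Nat.prime_two,
    Nat.factorization_eq_zero_of_not_dvd (n := 15 * Nat.card M)]
  · norm_num
  · intro h3
    have h4 : Odd (15 * Nat.card M) := Odd.mul (by decide) S.odd
    rw [← Nat.not_even_iff_odd, even_iff_two_dvd] at h4
    exact h4 h3

theorem Str.quaternion (S : Str u N M P) :
    ∃ m : ℕ, 1 ≤ m ∧ Nonempty ((P : Subgroup G) ≃* QuaternionGroup (2 ^ m)) := by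
  have hPconj : ∀ x ∈ (P : Subgroup G), x ∉ N → orderOf x = 4 := by
    intro x hx hxN
    obtain ⟨k, hk⟩ := P.2 ⟨x, hx⟩
    have hk' : x ^ 2 ^ k = 1 := by
      have := congrArg Subtype.val hk
      simpa using this
    rw [orderOf_of_isConj (S.pack.conj k x hk' hxN), S.ord]
  have hinvo : ∀ x : (P : Subgroup G), x ≠ 1 → x ^ 2 = 1 → (x : G) = u ^ 2 := by
    intro x hx hx2
    have hx2' : (x : G) ^ 2 = 1 := by
      have := congrArg Subtype.val hx2
      simpa using this
    by_cases hxN : (x : G) ∈ N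
    · rcases S.two x x.2 hxN with h | h
      · exact absurd (Subtype.ext h) hx
      · exact h
    · have h1 := hPconj x x.2 hxN
      have h2 := orderOf_dvd_of_pow_eq_one hx2'
      rw [h1] at h2
      norm_num at h2
  have hU : Solvable.UniqueOrderP.UniqueP 2 (P : Subgroup G) := by
    intro x y hx hx2 hy2
    by_cases hy1 : y = 1
    · rw [hy1]; exact one_mem _
    · have : y = x := by
        apply Subtype.ext
        rw [hinvo x hx hx2, hinvo y hy1 hy2]
      rw [this]; exact Subgroup.mem_zpowers x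
  rcases Solvable.UniqueOrderP.cyclic_or_quaternion P.2 hU with h | ⟨-, m, hm, h⟩
  · exfalso
    obtain ⟨g, hg⟩ := h.exists_generator
    have h1 : orderOf g = 8 := by
      rw [← S.card_sylow]
      exact orderOf_eq_card_of_forall_mem_zpowers hg
    have h2 : orderOf (g : G) = 8 := by rw [Subgroup.orderOf_coe, h1]
    by_cases hgN : (g : G) ∈ N
    · rcases S.two g g.2 hgN with h | h
      · rw [h, orderOf_one] at h2; norm_num at h2
      · have h3 : orderOf (g : G) ∣ 2 := by
          rw [h]; exact orderOf_dvd_of_pow_eq_one S.sq_sq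
        rw [h2] at h3; norm_num at h3
    · rw [hPconj g g.2 hgN] at h2; norm_num at h2
  · exact ⟨m, Nat.one_le_iff_ne_zero.2 hm, h⟩

theorem Str.mem_iff [M.Normal] (S : Str u N M P) (x : G) :
    x ∈ N ↔ QuotientGroup.mk x ∈ Subgroup.zpowers (QuotientGroup.mk (u ^ 2) : G ⧸ M) := by
  constructor
  · intro hx
    obtain ⟨m, hm, h | h⟩ := S.fac x hx
    · rw [h, (QuotientGroup.eq_one_iff m).2 hm]; exact one_mem _
    · rw [h, QuotientGroup.mk_mul, (QuotientGroup.eq_one_iff m).2 hm, one_mul]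
      exact Subgroup.mem_zpowers _
  · rintro ⟨k, hk⟩
    have h1 : QuotientGroup.mk ((u ^ 2) ^ k) = (QuotientGroup.mk x : G ⧸ M) := hk
    rw [QuotientGroup.eq] at h1
    have h2 : (u ^ 2) ^ k * (((u ^ 2) ^ k)⁻¹ * x) ∈ N :=
      mul_mem (Subgroup.zpow_mem _ S.pack.sq k) (S.le h1)
    simpa using h2

theorem Str.sl (S : Str u N M P) :
    Nonempty (G ⧸ oddCore G ≃* Matrix.SpecialLinearGroup (Fin 2) (ZMod 5)) := by
  have hMn := S.normal
  haveI : Fact (Nat.Prime 5) := ⟨by norm_num⟩
  have key : Nonempty (G ⧸ M ≃* Matrix.SpecialLinearGroup (Fin 2) (ZMod 5)) := by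
    obtain ⟨m, hm, ⟨e⟩⟩ := S.quaternion
    set z : G ⧸ M := QuotientGroup.mk' M (u ^ 2) with hz
    have hzc : z ∈ Subgroup.center (G ⧸ M) := S.cen _ S.pack.sq
    have hz2 : orderOf z = 2 := by
      apply orderOf_eq_prime
      · rw [hz, ← map_pow, S.sq_sq, map_one]
      · intro h1
        exact S.sq_notMem ((QuotientGroup.eq_one_iff _).1 h1)
    have hn : (Subgroup.zpowers z).Normal := by
      constructor
      intro n hn g
      have hnc : n ∈ Subgroup.center (G ⧸ M) :=
        (Subgroup.zpowers_le.2 hzc) hn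
      rw [Subgroup.mem_center_iff.1 hnc g, mul_assoc, mul_inv_cancel, mul_one]
      exact hn
    -- the Sylow subgroup of the quotient
    set Q : Sylow 2 (G ⧸ M) := P.mapSurjective (QuotientGroup.mk'_surjective M) with hQ
    have hQc : (Q : Subgroup (G ⧸ M)) = (P : Subgroup G).map (QuotientGroup.mk' M) := rfl
    have hinj : Function.Injective ((QuotientGroup.mk' M).subgroupMap (P : Subgroup G)) := by
      rw [injective_iff_map_eq_one]
      intro x hx
      have h1 := congrArg Subtype.val hx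
      have h2 : (x : G) ∈ M := (QuotientGroup.eq_one_iff (x : G)).1 h1
      exact Subtype.ext (odd_inter S.odd x.2 h2)
    have e2 : (P : Subgroup G) ≃* (Q : Subgroup (G ⧸ M)) :=
      MulEquiv.ofBijective ((QuotientGroup.mk' M).subgroupMap (P : Subgroup G))
        ⟨hinj, (QuotientGroup.mk' M).subgroupMap_surjective _⟩
    -- the quotient by `z`
    obtain ⟨φ⟩ : Nonempty ((G ⧸ M) ⧸ Subgroup.zpowers z ≃*
        Matrix.ProjectiveSpecialLinearGroup (Fin 2) (ZMod 5)) := by
      refine simple_quot S.pack ((QuotientGroup.mk' (Subgroup.zpowers z)).comp (QuotientGroup.mk' M))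
        ((QuotientGroup.mk'_surjective _).comp (QuotientGroup.mk'_surjective _)) ?_
      ext x
      rw [MonoidHom.mem_ker, MonoidHom.comp_apply]
      rw [S.mem_iff x]
      exact QuotientGroup.eq_one_iff _
    exact TwoFusion.QuatCoverSL.mulEquiv_sl_two z hzc hz2 Q m hm (e2.symm.trans e)
      (by rw [ZMod.card]; decide) φ
  obtain ⟨e⟩ := key
  exact ⟨(QuotientGroup.quotientMulEquivOfEq S.core).trans e⟩

end Cfsg.Agent.H668.FourGroupD
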