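import Cfsg.Agent.H668.FourGroupD

/-!
# Group-theoretic part of S4758, `u` of order four: `O(G)` is commutative
-/

set_option autoImplicit false
set_option linter.unusedSectionVars false
set_option linter.style.haveILetI false
open Cfsg Cfsg.Agent.H668.FourGroup Cfsg.Agent.H668.FourGroupA Cfsg.Agent.H668.FourGroupB
  Cfsg.Agent.H668.FourGroupC Cfsg.Agent.H668.FourGroupD

namespace Cfsg.Agent.H668.FourGroupE

variable {G : Type*} [Group G] [Finite G]

/-- An element whose square centralizes `X`, acting without fixed points on `X`, inverts `X`. -/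
theorem inverts_of_fpf (X : Subgroup G) (w : G) (hX : ∀ x ∈ X, w * x * w⁻¹ ∈ X)
    (h2 : ∀ x ∈ X, w ^ 2 * x = x * w ^ 2) (hfix : ∀ x ∈ X, w * x = x * w → x = 1) :
    (∀ x ∈ X, w * x * w⁻¹ = x⁻¹) ∧ ∀ x ∈ X, ∀ y ∈ X, x * y = y * x := by
  let φ : X →* X :=
    { toFun := fun x => ⟨w * x * w⁻¹, hX x x.2⟩
      map_one' := by apply Subtype.ext; simp
      map_mul' := by intro x y; apply Subtype.ext; simp }
  have hφ : ∀ x : X, ((φ x : X) : G) = w * x * w⁻¹ := fun x => rfl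
  have hf : MonoidHom.FixedPointFree φ := by
    intro x hx
    apply Subtype.ext
    apply hfix x x.2
    have h1 := congrArg Subtype.val hx
    rw [hφ, mul_inv_eq_iff_eq_mul] at h1
    exact h1
  have hi : Function.Involutive φ := by
    intro x
    apply Subtype.ext
    rw [hφ, hφ]
    have h1 := h2 x x.2
    calc w * (w * (x : G) * w⁻¹) * w⁻¹ = (w ^ 2 * x) * (w ^ 2)⁻¹ := by rw [sq]; group
      _ = x := by rw [h1, mul_assoc, mul_inv_cancel, mul_one]
  have hc := hf.coe_eq_inv_of_involutive hi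
  constructor
  · intro x hx
    have h1 := congrFun hc ⟨x, hx⟩
    exact congrArg Subtype.val h1
  · intro x hx y hy
    have h1 := hf.commute_all_of_involutive hi ⟨x, hx⟩ ⟨y, hy⟩
    exact congrArg Subtype.val h1.eq

variable {u : G} {N M : Subgroup G} {P : Sylow 2 G}

theorem Str.frattini (S : Str u N M P) (g : G) :
    ∃ r : G, r * u ^ 2 = u ^ 2 * r ∧ ∃ m ∈ M, g = r * m := by
  have hNn := S.pack.normal
  have hMn := S.normal
  have h1 := Lib.SylowNormalInf.normalizer_inf_sup_eq_top P N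
  have h2 : g ∈ Subgroup.normalizer (((P : Subgroup G) ⊓ N : Subgroup G) : Set G) ⊔ N := by
    rw [h1]; exact Subgroup.mem_top g
  obtain ⟨y, hy, n, hn, rfl⟩ := Subgroup.mem_sup_of_normal_right.1 h2
  have hy2 : y * u ^ 2 = u ^ 2 * y := by
    have h3 : y * u ^ 2 * y⁻¹ ∈ (P : Subgroup G) ⊓ N :=
      ((Subgroup.mem_normalizer_iff.1 hy) (u ^ 2)).1 ⟨pow_mem S.mem 2, S.pack.sq⟩
    rcases S.two _ h3.1 h3.2 with h4 | h4
    · exfalso
      apply S.sq_ne
      rw [mul_inv_eq_one] at h4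
      exact mul_eq_left.1 h4
    · rwa [mul_inv_eq_iff_eq_mul] at h4
  obtain ⟨m, hm, h | h⟩ := S.fac n hn
  · exact ⟨y, hy2, m, hm, by rw [h]⟩
  · refine ⟨y * u ^ 2, by rw [hy2, mul_assoc, hy2], (u ^ 2)⁻¹ * m * u ^ 2, ?_, ?_⟩
    · have := hMn.conj_mem m hm (u ^ 2)⁻¹
      rwa [inv_inv] at this
    · rw [h]; group

theorem Str.comm (S : Str u N M P) : IsMulCommutative ↥(oddCore G) := by
  have hNn := S.pack.normal
  have hMn := S.normal
  -- `L = C_M(u²)`
  set L : Subgroup G := M ⊓ Subgroup.centralizer {u ^ 2} with hL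
  have hLmem : ∀ x, x ∈ L ↔ x ∈ M ∧ x * u ^ 2 = u ^ 2 * x := by
    intro x
    rw [hL, Subgroup.mem_inf, Subgroup.mem_centralizer_singleton_iff]
  have hLconj : ∀ r : G, r * u ^ 2 = u ^ 2 * r → ∀ x ∈ L, r * x * r⁻¹ ∈ L := by
    intro r hr x hx
    rw [hLmem] at hx ⊢
    refine ⟨hMn.conj_mem x hx.1 r, ?_⟩
    have h1 : r⁻¹ * u ^ 2 = u ^ 2 * r⁻¹ := by
      rw [inv_mul_eq_iff_eq_mul, ← mul_assoc, ← mul_inv_eq_iff_eq_mul, inv_inv, hr]
    calc r * x * r⁻¹ * u ^ 2 = r * x * (r⁻¹ * u ^ 2) := by group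
      _ = r * (x * u ^ 2) * r⁻¹ := by rw [h1]; group
      _ = (r * u ^ 2) * x * r⁻¹ := by rw [hx.2]; group
      _ = u ^ 2 * (r * x * r⁻¹) := by rw [hr]; group
  have huu : u * u ^ 2 = u ^ 2 * u := by group
  have hoddM : ∀ x ∈ M, x ∈ Subgroup.zpowers u → x = 1 := by
    intro x hx hxu
    refine odd_inter (P := P) S.odd ?_ hx
    exact (Subgroup.zpowers_le.2 S.mem) hxu
  have hfixM : ∀ x ∈ M, u * x = x * u → x = 1 := by
    intro x hx h
    apply hoddM x hx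
    rw [← centralizer_eq S.pack S.ord (IsConj.refl u), Subgroup.mem_centralizer_singleton_iff]
    exact h.symm
  obtain ⟨hLinv, hLab⟩ := inverts_of_fpf L u (hLconj u huu)
    (fun x hx => ((hLmem x).1 hx).2.symm) (fun x hx h => hfixM x ((hLmem x).1 hx).1 h)
  -- elements of `R = C(u²)` centralizing `L`
  set D : Subgroup G := Subgroup.centralizer {u ^ 2} ⊓ Subgroup.centralizer (L : Set G) with hD
  have hDmem : ∀ x, x ∈ D ↔ x * u ^ 2 = u ^ 2 * x ∧ ∀ l ∈ L, l * x = x * l := by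
    intro x
    rw [hD, Subgroup.mem_inf, Subgroup.mem_centralizer_singleton_iff, Subgroup.mem_centralizer_iff]
    rfl
  have hDconj : ∀ r : G, r * u ^ 2 = u ^ 2 * r → ∀ x ∈ D, r * x * r⁻¹ ∈ D := by
    intro r hr x hx
    rw [hDmem] at hx ⊢
    have h1 : r⁻¹ * u ^ 2 = u ^ 2 * r⁻¹ := by
      rw [inv_mul_eq_iff_eq_mul, ← mul_assoc, ← mul_inv_eq_iff_eq_mul, inv_inv, hr]
    refine ⟨?_, ?_⟩
    · calc r * x * r⁻¹ * u ^ 2 = r * x * (r⁻¹ * u ^ 2) := by group
        _ = r * (x * u ^ 2) * r⁻¹ := by rw [h1]; group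
        _ = (r * u ^ 2) * x * r⁻¹ := by rw [hx.1]; group
        _ = u ^ 2 * (r * x * r⁻¹) := by rw [hr]; group
    · intro l hl
      have h2 := hx.2 (r⁻¹ * l * r) (by
        have := hLconj r⁻¹ h1 l hl
        rwa [inv_inv] at this)
      calc l * (r * x * r⁻¹) = r * ((r⁻¹ * l * r) * x) * r⁻¹ := by group
        _ = r * x * r⁻¹ * l := by rw [h2]; group
  have hDn : (D.map (QuotientGroup.mk' M)).Normal := by
    constructor
    rintro _ ⟨x, hx, rfl⟩ g
    obtain ⟨g, rfl⟩ := QuotientGroup.mk'_surjective M g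
    obtain ⟨r, hr, m, hm, rfl⟩ := Str.frattini S g
    refine ⟨r * x * r⁻¹, hDconj r hr x hx, ?_⟩
    have h1 : QuotientGroup.mk' M m = 1 := (QuotientGroup.eq_one_iff m).2 hm
    rw [map_mul (QuotientGroup.mk' M) r m, h1, mul_one, map_mul, map_mul, map_inv]
  have hq := S.pack.gen.quot M
  have htop := hq.central (D.map (QuotientGroup.mk' M)) (by
    intro g
    obtain ⟨g, rfl⟩ := QuotientGroup.mk'_surjective M g
    obtain ⟨r, hr, m, hm, rfl⟩ := Str.frattini S g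
    have h1 : QuotientGroup.mk' M m = 1 := (QuotientGroup.eq_one_iff m).2 hm
    rw [map_mul (QuotientGroup.mk' M) r m, h1, mul_one]
    refine ⟨r * u * r⁻¹ * u⁻¹, ?_, by rw [map_mul, map_mul, map_mul, map_inv, map_inv]⟩
    have hr1 : r⁻¹ * u ^ 2 = u ^ 2 * r⁻¹ := by
      rw [inv_mul_eq_iff_eq_mul, ← mul_assoc, ← mul_inv_eq_iff_eq_mul, inv_inv, hr]
    show _ ∈ D
    rw [hDmem]
    constructor
    · calc r * u * r⁻¹ * u⁻¹ * u ^ 2 = r * u * r⁻¹ * u ^ 2 * u⁻¹ := by group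
        _ = r * u * (r⁻¹ * u ^ 2) * u⁻¹ := by group
        _ = (r * u ^ 2) * u * r⁻¹ * u⁻¹ := by rw [hr1]; group
        _ = u ^ 2 * (r * u * r⁻¹ * u⁻¹) := by rw [hr]; group
    · -- `u⁻¹` and `r u r⁻¹` both invert `L`
      have i1 : ∀ l ∈ L, u⁻¹ * l * u = l⁻¹ := by
        intro l hl
        have h3 : u⁻¹ * u ^ 2 = u ^ 2 * u⁻¹ := by group
        have h4 := hLinv (u⁻¹ * l * u) (by
          have := hLconj u⁻¹ h3 l hl
          rwa [inv_inv] at this)
        have h5 : u * (u⁻¹ * l * u) * u⁻¹ = l := by group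
        rw [h5] at h4
        rw [eq_comm, inv_eq_iff_eq_inv]
        exact h4
      have i2 : ∀ l ∈ L, (r * u * r⁻¹) * l * (r * u * r⁻¹)⁻¹ = l⁻¹ := by
        intro l hl
        have h4 := hLinv (r⁻¹ * l * r) (by
          have := hLconj r⁻¹ hr1 l hl
          rwa [inv_inv] at this)
        calc (r * u * r⁻¹) * l * (r * u * r⁻¹)⁻¹ = r * (u * (r⁻¹ * l * r) * u⁻¹) * r⁻¹ := by group
          _ = l⁻¹ := by rw [h4]; group
      intro l hl
      have h5 : (r * u * r⁻¹ * u⁻¹) * l * (r * u * r⁻¹ * u⁻¹)⁻¹ = l := by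
        have h6 : (r * u * r⁻¹ * u⁻¹) * l * (r * u * r⁻¹ * u⁻¹)⁻¹ =
            (r * u * r⁻¹) * (u⁻¹ * l * u) * (r * u * r⁻¹)⁻¹ := by group
        rw [h6, i1 l hl, i2 _ (inv_mem hl), inv_inv]
      calc l * (r * u * r⁻¹ * u⁻¹)
          = ((r * u * r⁻¹ * u⁻¹) * l * (r * u * r⁻¹ * u⁻¹)⁻¹) * (r * u * r⁻¹ * u⁻¹) := by rw [h5]
        _ = r * u * r⁻¹ * u⁻¹ * l := by group)
  -- `u = d m`, so `u` centralizes `L`
  have hLtriv : ∀ l ∈ L, l = 1 := by
    have h1 : QuotientGroup.mk' M u ∈ D.map (QuotientGroup.mk' M) := by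
      rw [htop]; exact Subgroup.mem_top _
    obtain ⟨d, hd, hdu⟩ := h1
    have h2 : d⁻¹ * u ∈ M := QuotientGroup.eq.1 hdu
    have hd' := (hDmem d).1 hd
    have h3 : d⁻¹ * u ∈ L := by
      rw [hLmem]
      refine ⟨h2, ?_⟩
      have h4 : d⁻¹ * u ^ 2 = u ^ 2 * d⁻¹ := by
        rw [inv_mul_eq_iff_eq_mul, ← mul_assoc, ← mul_inv_eq_iff_eq_mul, inv_inv, hd'.1]
      calc d⁻¹ * u * u ^ 2 = (d⁻¹ * u ^ 2) * u := by group
        _ = u ^ 2 * (d⁻¹ * u) := by rw [h4]; group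
    intro l hl
    apply hfixM l ((hLmem l).1 hl).1
    have h5 : u = d * (d⁻¹ * u) := by group
    have h6 := hLab l hl _ h3
    have h7 := hd'.2 l hl
    calc u * l = d * ((d⁻¹ * u) * l) := by group
      _ = d * l * (d⁻¹ * u) := by rw [← h6]; group
      _ = l * d * (d⁻¹ * u) := by rw [h7]
      _ = l * u := by group
  -- `u²` acts without fixed points on `M`
  obtain ⟨-, hMab⟩ := inverts_of_fpf M (u ^ 2) (fun x hx => hMn.conj_mem x hx _)
    (fun x _ => by rw [S.sq_sq, one_mul, mul_one]) (fun x hx h => hLtriv x ((hLmem x).2 ⟨hx, h.symm⟩))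
  refine ⟨⟨fun a b => ?_⟩⟩
  apply Subtype.ext
  have ha : (a : G) ∈ M := by rw [← S.core]; exact a.2
  have hb : (b : G) ∈ M := by rw [← S.core]; exact b.2
  exact hMab a ha b hb

end Cfsg.Agent.H668.FourGroupE
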