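import Mathlib
import Cfsg.Prelude.Def_Characters
import Cfsg.Agent.Characters.Core
import Cfsg.Agent.Characters.Linear
import Cfsg.Agent.Characters.Central
import Cfsg.Agent.S0145
import Cfsg.Agent.S0154
import Cfsg.Agent.S0187
import Cfsg.Agent.S0189

/-!
# Non-linear characters and centralizers of order `|G : G'|`

Auxiliary results for S4756.
-/

set_option autoImplicit false
set_option linter.unusedSectionVars false
set_option linter.style.haveILetI false
open scoped ComplexConjugate
open Cfsg Subgroup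

namespace Cfsg.Agent.H668.MultAux

variable {G : Type*} [Group G] [Finite G]

theorem sum_normSq [Fintype (IrrCharacter G)] (g : G) :
    ∑ χ : IrrCharacter G, Complex.normSq ((χ : G → ℂ) g) =
      (Nat.card (Subgroup.centralizer ({g} : Set G)) : ℝ) := by
  classical
  haveI := Fintype.ofFinite G
  have h := S0145.sum_irr_mul_conj g g
  rw [if_pos (IsConj.refl g)] at h
  simp_rw [Complex.mul_conj] at h
  exact_mod_cast h

theorem normSq_linear {χ : IrrCharacter G} (h : (χ : G → ℂ) 1 = 1) (g : G) :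
    Complex.normSq ((χ : G → ℂ) g) = 1 := by
  obtain ⟨f, hf⟩ := Characters.Linear.exists_hom_of_isIrrCharacter χ.2 h
  rw [hf]
  rw [Complex.normSq_eq_norm_sq, Characters.Linear.norm_hom_apply f g]
  norm_num

open Classical in
theorem sum_split [Fintype (IrrCharacter G)] (g : G) :
    ((commutator G).index : ℝ) +
      ∑ χ ∈ Finset.univ.filter (fun χ : IrrCharacter G => ¬ χ.1 1 = 1), Complex.normSq (χ.1 g) =
      (Nat.card (Subgroup.centralizer ({g} : Set G)) : ℝ) := by
  rw [← sum_normSq g, ← Finset.sum_filter_add_sum_filter_not Finset.univ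
    (fun χ : IrrCharacter G => (χ : G → ℂ) 1 = 1)]
  congr 1
  have h1 : ∀ χ ∈ Finset.univ.filter (fun χ : IrrCharacter G => (χ : G → ℂ) 1 = 1),
      Complex.normSq ((χ : G → ℂ) g) = 1 := by
    intro χ hχ
    exact normSq_linear (Finset.mem_filter.1 hχ).2 g
  rw [Finset.sum_congr rfl h1, Finset.sum_const, nsmul_eq_mul, mul_one, ← S0154.result,
    Nat.card_eq_fintype_card, Fintype.card_subtype]

/-- If all non-linear characters vanish at `g` then `|C(g)| = |G : G'|`. -/
theorem card_centralizer_of_vanish (g : G)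
    (h : ∀ χ : IrrCharacter G, (χ : G → ℂ) 1 ≠ 1 → (χ : G → ℂ) g = 0) :
    Nat.card (Subgroup.centralizer ({g} : Set G)) = (commutator G).index := by
  classical
  haveI : Fintype (IrrCharacter G) := by
    haveI := Characters.Core.finite_irr (G := G)
    exact Fintype.ofFinite _
  have h1 := sum_split g
  rw [Finset.sum_eq_zero] at h1
  · rw [add_zero] at h1
    exact_mod_cast h1.symm
  · intro χ hχ
    rw [h χ (Finset.mem_filter.1 hχ).2]
    simp

/-- If `|C(g)| ≤ |G : G'|` then all non-linear characters vanish at `g`. -/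
theorem vanish_of_card (g : G)
    (h : Nat.card (Subgroup.centralizer ({g} : Set G)) ≤ (commutator G).index)
    (χ : IrrCharacter G) (hχ : (χ : G → ℂ) 1 ≠ 1) : (χ : G → ℂ) g = 0 := by
  classical
  haveI : Fintype (IrrCharacter G) := by
    haveI := Characters.Core.finite_irr (G := G)
    exact Fintype.ofFinite _
  have h1 := sum_split g
  have h2 : (Nat.card (Subgroup.centralizer ({g} : Set G)) : ℝ) ≤ (commutator G).index := by
    exact_mod_cast h
  have h3 : ∑ χ ∈ Finset.univ.filter (fun χ : IrrCharacter G => ¬ χ.1 1 = 1), Complex.normSq (χ.1 g) = 0 := by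
    apply le_antisymm (by linarith)
    exact Finset.sum_nonneg fun χ _ => Complex.normSq_nonneg _
  have hmem : χ ∈ Finset.univ.filter (fun χ : IrrCharacter G => ¬ χ.1 1 = 1) :=
    Finset.mem_filter.2 ⟨Finset.mem_univ _, hχ⟩
  have h4 := (Finset.sum_eq_zero_iff_of_nonneg
    (fun χ _ => Complex.normSq_nonneg (χ.1 g))).1 h3 χ hmem
  exact Complex.normSq_eq_zero.1 h4

/-- The square of the degree of a non-linear character is less than the group order. -/
theorem sq_lt {χ : IrrCharacter G} (hχ : (χ : G → ℂ) 1 ≠ 1) {d : ℕ} (hd : (χ : G → ℂ) 1 = d) :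
    d ^ 2 < Nat.card G := by
  classical
  haveI : Fintype (IrrCharacter G) := by
    haveI := Characters.Core.finite_irr (G := G)
    exact Fintype.ofFinite _
  have h1 := sum_split (1 : G)
  have h2 : Complex.normSq ((χ : G → ℂ) 1) ≤
      ∑ χ ∈ Finset.univ.filter (fun χ : IrrCharacter G => ¬ χ.1 1 = 1), Complex.normSq (χ.1 1) := by
    apply Finset.single_le_sum (f := fun χ : IrrCharacter G => Complex.normSq ((χ : G → ℂ) 1))
      (fun χ _ => Complex.normSq_nonneg _)
    exact Finset.mem_filter.2 ⟨Finset.mem_univ _, hχ⟩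
  have h3 : (Nat.card (Subgroup.centralizer ({(1 : G)} : Set G)) : ℝ) ≤ Nat.card G := by
    exact_mod_cast Subgroup.card_le_card_group _
  have h4 : (1 : ℝ) ≤ (commutator G).index := by
    exact_mod_cast Nat.one_le_iff_ne_zero.2 (Subgroup.index_ne_zero_of_finite)
  have h5 : ((d : ℝ)) ^ 2 = Complex.normSq ((χ : G → ℂ) 1) := by
    rw [hd, Complex.normSq_natCast, sq]
  have h6 : ((d ^ 2 : ℕ) : ℝ) < Nat.card G := by
    push_cast
    rw [h5]
    linarith
  exact_mod_cast h6

/-- If the character is multiplicative on all conjugates of `x`, `y` then a non-linear one vanishes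
at `x` or at `y`. -/
theorem mul_eq_zero_of_mult {χ : IrrCharacter G} (hχ : (χ : G → ℂ) 1 ≠ 1) (x y : G)
    (h : ∀ a : G, (χ : G → ℂ) (a * x * a⁻¹ * y) = (χ : G → ℂ) (a * x * a⁻¹) * (χ : G → ℂ) y) :
    (χ : G → ℂ) x * (χ : G → ℂ) y = 0 := by
  haveI := Fintype.ofFinite G
  have h1 := Characters.Central.sum_char_conj_mul χ.2 x y
  have hcl := Characters.Core.isIrr_isClassFunction χ.2
  have h2 : ∀ a : G, (χ : G → ℂ) (a * x * a⁻¹ * y) = (χ : G → ℂ) x * (χ : G → ℂ) y := by
    intro a
    rw [h a, hcl x a]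
  simp_rw [h2] at h1
  rw [Finset.sum_const, Finset.card_univ, nsmul_eq_mul, ← Nat.card_eq_fintype_card] at h1
  have h3 : (χ : G → ℂ) 1 ≠ 0 := Characters.Core.isIrr_apply_one_ne_zero χ.2
  have h4 : (Nat.card G : ℂ) ≠ 0 := by exact_mod_cast Nat.card_pos.ne'
  have h5 : (Nat.card G : ℂ) * ((χ : G → ℂ) x * (χ : G → ℂ) y) * ((χ : G → ℂ) 1 - 1) = 0 := by
    field_simp at h1
    linear_combination (Nat.card G : ℂ) * h1
  rcases mul_eq_zero.1 h5 with h6 | h6
  · rcases mul_eq_zero.1 h6 with h7 | h7
    · exact absurd h7 h4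
    · exact h7
  · exact absurd (sub_eq_zero.1 h6) hχ

end Cfsg.Agent.H668.MultAux
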